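import Mathlib.LinearAlgebra.FiniteDimensional.Lemmas
import Mathlib.LinearAlgebra.Basis.VectorSpace
import Mathlib.LinearAlgebra.TensorProduct.Tower
import Mathlib.LinearAlgebra.Dimension.OrzechProperty

/-!
# Transports along a linked chain and frames of exact linked tuples

For a chain of maps `f i` forward and `g i` backward between copies of a module, `tr f g i j` carries
the `j`-th copy to the `i`-th one along the chain.  An exact linked tuple of subspaces has a frame:
vectors in some of its members whose transports form a basis of every member.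
-/

set_option autoImplicit false

open scoped TensorProduct

universe u v

namespace Groth.Agent.H7LGr

section Tr

variable {R : Type u} [CommRing R] {E : Type v} [AddCommGroup E] [Module R E] {n : ℕ}

/-- A family indexed by `Fin n` extended by the identity. -/
def extNat (f : Fin n → E →ₗ[R] E) (m : ℕ) : E →ₗ[R] E :=
  if h : m < n then f ⟨m, h⟩ else LinearMap.id

/-- `m` forward steps from the `j`-th copy. -/
def up (f : Fin n → E →ₗ[R] E) (j : ℕ) : ℕ → E →ₗ[R] E
  | 0 => LinearMap.id
  | m + 1 => extNat f (j + m) ∘ₗ up f j m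

/-- `m` backward steps down to the `i`-th copy. -/
def down (g : Fin n → E →ₗ[R] E) : ℕ → ℕ → E →ₗ[R] E
  | _, 0 => LinearMap.id
  | i, m + 1 => extNat g i ∘ₗ down g (i + 1) m

/-- The transport from the `j`-th copy to the `i`-th. -/
def tr (f g : Fin n → E →ₗ[R] E) (i j : ℕ) : E →ₗ[R] E :=
  if j ≤ i then up f j (i - j) else down g i (j - i)

variable (f g : Fin n → E →ₗ[R] E)

theorem extNat_apply (i : Fin n) : extNat f i = f i := dif_pos i.2

theorem tr_self (i : ℕ) : tr f g i i = LinearMap.id := by
  simp [tr, up]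

theorem tr_succ_of_le (i : Fin n) {j : ℕ} (h : j ≤ i) :
    tr f g (i + 1) j = f i ∘ₗ tr f g i j := by
  rw [tr, tr, if_pos (by omega), if_pos h, show (i : ℕ) + 1 - j = (i - j) + 1 by omega, up,
    Nat.add_sub_cancel' h, extNat_apply]

theorem tr_of_lt (i : Fin n) {j : ℕ} (h : (i : ℕ) < j) :
    tr f g i j = g i ∘ₗ tr f g (i + 1) j := by
  rw [tr, if_neg (by omega), show j - (i : ℕ) = (j - (i + 1)) + 1 by omega, down, extNat_apply]
  rcases Nat.lt_or_ge ((i : ℕ) + 1) j with h' | h'
  · rw [tr, if_neg (by omega)]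
  · rw [show j = (i : ℕ) + 1 by omega, tr_self, Nat.sub_self, down]

/-- A linked tuple absorbs transports. -/
theorem tr_mem (V : Fin (n + 1) → Submodule R E)
    (hf : ∀ i : Fin n, ∀ x ∈ V i.castSucc, f i x ∈ V i.succ)
    (hg : ∀ i : Fin n, ∀ x ∈ V i.succ, g i x ∈ V i.castSucc)
    (i j : Fin (n + 1)) {x : E} (hx : x ∈ V j) : tr f g i j x ∈ V i := by
  have hU : ∀ (m : ℕ) (b : ℕ) (hb : b < n + 1), (j : ℕ) + m = b → tr f g b j x ∈ V ⟨b, hb⟩ := by
    intro m
    induction m with
    | zero =>
      intro b hb e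
      obtain rfl : b = (j : ℕ) := by omega
      simpa [tr_self] using hx
    | succ m ih =>
      intro b hb e
      obtain rfl : b = (j : ℕ) + m + 1 := by omega
      let t : Fin n := ⟨(j : ℕ) + m, by omega⟩
      show tr f g ((t : ℕ) + 1) j x ∈ V t.succ
      rw [tr_succ_of_le f g t (by simp [t])]
      exact hf t _ (ih _ _ rfl)
  have hD : ∀ (m : ℕ) (b : ℕ) (hb : b < n + 1), b + m = (j : ℕ) → tr f g b j x ∈ V ⟨b, hb⟩ := by
    intro m
    induction m with
    | zero =>
      intro b hb e
      obtain rfl : b = (j : ℕ) := by omega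
      simpa [tr_self] using hx
    | succ m ih =>
      intro b hb e
      let t : Fin n := ⟨b, by omega⟩
      show tr f g (t : ℕ) j x ∈ V t.castSucc
      rw [tr_of_lt f g t (by simp [t]; omega)]
      exact hg t _ (ih _ (by omega) (by omega))
  rcases Nat.le_total (i : ℕ) (j : ℕ) with h | h
  · exact hD ((j : ℕ) - i) i i.2 (by omega)
  · exact hU ((i : ℕ) - j) i i.2 (by omega)

variable {f g} {s : R} (hI : ∀ i, (f i).comp (g i) = s • LinearMap.id ∧ (g i).comp (f i) = s • LinearMap.id)

include hI in
theorem map_f_tr_mem (i : Fin n) (j : ℕ) (x : E) {S : Submodule R E}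
    (hS : tr f g (i + 1) j x ∈ S) : f i (tr f g i j x) ∈ S := by
  rcases Nat.lt_or_ge (i : ℕ) j with h | h
  · rw [tr_of_lt f g i h, LinearMap.comp_apply,
      show f i (g i (tr f g (i + 1) j x)) = s • tr f g (i + 1) j x from congr($((hI i).1) _)]
    exact S.smul_mem s hS
  · rwa [tr_succ_of_le f g i h, LinearMap.comp_apply] at hS

include hI in
theorem map_g_tr_mem (i : Fin n) (j : ℕ) (x : E) {S : Submodule R E}
    (hS : tr f g i j x ∈ S) : g i (tr f g (i + 1) j x) ∈ S := by
  rcases Nat.lt_or_ge (i : ℕ) j with h | h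
  · rwa [tr_of_lt f g i h, LinearMap.comp_apply] at hS
  · rw [tr_succ_of_le f g i h, LinearMap.comp_apply,
      show g i (f i (tr f g i j x)) = s • tr f g i j x from congr($((hI i).2) _)]
    exact S.smul_mem s hS

end Tr

section BaseChange

variable {R : Type u} [CommRing R] {E : Type v} [AddCommGroup E] [Module R E] {n : ℕ}
  (A : Type u) [CommRing A] [Algebra R A]

/-- Transports commute with change of rings. -/
theorem baseChange_tr (f g : Fin n → E →ₗ[R] E) (i j : ℕ) :
    tr (fun a => (f a).baseChange A) (fun a => (g a).baseChange A) i j =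
      (tr f g i j).baseChange A := by
  have hext : ∀ (h : Fin n → E →ₗ[R] E) (m : ℕ),
      extNat (fun a => (h a).baseChange A) m = (extNat h m).baseChange A := fun h m => by
    unfold extNat
    split_ifs
    · rfl
    · exact LinearMap.baseChange_id.symm
  have hup : ∀ j m, up (fun a => (f a).baseChange A) j m = (up f j m).baseChange A := by
    intro j m
    induction m with
    | zero => exact LinearMap.baseChange_id.symm
    | succ m ih => rw [up, up, hext, ih, LinearMap.baseChange_comp]
  have hdown : ∀ m i, down (fun a => (g a).baseChange A) i m = (down g i m).baseChange A := by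
    intro m
    induction m with
    | zero => exact fun i => LinearMap.baseChange_id.symm
    | succ m ih => intro i; rw [down, down, hext, ih, LinearMap.baseChange_comp]
  unfold tr
  split_ifs
  · exact hup _ _
  · exact hdown _ _

end BaseChange

section Field

variable {K : Type u} [Field K] {E : Type v} [AddCommGroup E] [Module K E] [FiniteDimensional K E]
  {n r : ℕ} (f g : Fin n → E →ₗ[K] E) {s : K}

/-- An exact linked tuple has a frame made of vectors from given spanning sets. -/
theorem exists_frame_of_span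
    (hI : ∀ i, (f i).comp (g i) = s • LinearMap.id ∧ (g i).comp (f i) = s • LinearMap.id)
    (hIII : ∀ i j : Fin n, i.val + 1 = j.val →
      LinearMap.range (f i) ⊓ LinearMap.ker (f j) = ⊥)
    (V : Fin (n + 1) → Submodule K E) (hV : ∀ i, Module.finrank K (V i) = r)
    (hf : ∀ i : Fin n, ∀ x ∈ V i.castSucc, f i x ∈ V i.succ)
    (hg : ∀ i : Fin n, ∀ x ∈ V i.succ, g i x ∈ V i.castSucc)
    (hex : ∀ i : Fin n, LinearMap.ker (f i) ⊓ V i.castSucc ≤ (V i.succ).map (g i))
    (T : Fin (n + 1) → Set E) (hT : ∀ i, Submodule.span K (T i) = V i) :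
    ∃ (c : Fin r → Fin (n + 1)) (w : Fin r → E), (∀ l, w l ∈ T (c l)) ∧
      ∀ i : Fin (n + 1), LinearIndependent K (fun l => tr f g i (c l) (w l)) := by
  classical
  let Kr : Fin (n + 1) → Submodule K E := fun i =>
    if h : (i : ℕ) < n then LinearMap.ker (f ⟨i, h⟩) ⊓ V i else ⊥
  let P : Fin (n + 1) → Submodule K E :=
    Fin.cases ⊥ fun a => (V a.castSucc).map (f a)
  have hKV : ∀ i, Kr i ≤ V i := fun i => by
    simp only [Kr]; split_ifs
    · exact inf_le_right
    · exact bot_le
  have hPV : ∀ i, P i ≤ V i := fun i => by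
    refine Fin.cases ?_ (fun a => ?_) i
    · exact bot_le
    · exact Submodule.map_le_iff_le_comap.2 (hf a)
  have hTV : ∀ i, ∀ x ∈ T i, x ∈ V i := fun i x hx => hT i ▸ Submodule.subset_span hx
  -- complements spanned by the given generators
  have hW : ∀ i, ∃ (m : ℕ) (w : Fin m → E), (∀ j, w j ∈ T i) ∧
      Submodule.span K (Set.range w) ⊔ (P i ⊔ Kr i) = V i ∧
      m + Module.finrank K (P i ⊔ Kr i : Submodule K E) = r := fun i => by
    have hle : P i ⊔ Kr i ≤ V i := sup_le (hPV i) (hKV i)
    generalize P i ⊔ Kr i = U at hle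
    obtain ⟨γ₀, hγ, hγs, -⟩ :=
      Submodule.exists_fun_fin_finrank_span_eq K (U.mkQ '' T i)
    choose w hwT hwγ using hγ
    have hm : Submodule.span K (U.mkQ '' T i) = (V i).map U.mkQ := by
      rw [Submodule.span_image, hT i]
    refine ⟨_, w, hwT, ?_, ?_⟩
    · have h1 : (Submodule.span K (Set.range w)).map U.mkQ = (V i).map U.mkQ := by
        rw [Submodule.map_span, ← Set.range_comp, show U.mkQ ∘ w = γ₀ from funext hwγ, hγs, hm]
      have h2 := congrArg (Submodule.comap U.mkQ) h1
      rw [Submodule.comap_map_eq, Submodule.comap_map_eq, Submodule.ker_mkQ, sup_eq_left.2 hle] at h2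
      exact h2
    · rw [hm]
      have e := LinearMap.finrank_range_add_finrank_ker (U.mkQ.domRestrict (V i))
      rw [LinearMap.range_domRestrict, LinearMap.ker_domRestrict, Submodule.ker_mkQ] at e
      rw [(Submodule.comapSubtypeEquivOfLe hle).finrank_eq, hV i] at e
      exact e
  choose m v hvT hWsup hm using hW
  let W : Fin (n + 1) → Submodule K E := fun i => Submodule.span K (Set.range (v i))
  -- dimensions
  let a : Fin (n + 1) → ℕ := fun i =>
    if h : (i : ℕ) < n then Module.finrank K ((V i).map (f ⟨i, h⟩)) else r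
  have hKdim : ∀ i, Module.finrank K (Kr i) + a i = r := fun i => by
    by_cases h : (i : ℕ) < n
    · rw [(LinearEquiv.ofEq (Kr i) _ (dif_pos h)).finrank_eq, show a i = _ from dif_pos h, ← hV i]
      have e := LinearMap.finrank_range_add_finrank_ker ((f ⟨i, h⟩).domRestrict (V i))
      rw [LinearMap.range_domRestrict, LinearMap.ker_domRestrict] at e
      rw [← e, add_comm]
      congr 1
      rw [inf_comm, ← Submodule.map_comap_subtype]
      exact ((V i).equivSubtypeMap _).symm.finrank_eq
    · rw [(LinearEquiv.ofEq (Kr i) _ (dif_neg h)).finrank_eq, show a i = _ from dif_neg h,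
        finrank_bot, zero_add]
  have hPK : ∀ i, Disjoint (P i) (Kr i) := fun i => by
    refine Fin.cases ?_ (fun b => ?_) i
    · exact disjoint_bot_left
    · simp only [P, Kr, Fin.cases_succ]
      split_ifs with h
      · rw [disjoint_iff, eq_bot_iff, ← hIII b ⟨_, h⟩ (by simp [Fin.val_succ])]
        exact inf_le_inf (LinearMap.map_le_range) inf_le_left
      · exact disjoint_bot_right
  have hWdim : ∀ i, m i + Module.finrank K (P i) + Module.finrank K (Kr i) = r := fun i => by
    have e2 := Submodule.finrank_sup_add_finrank_inf_eq (P i) (Kr i)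
    rw [(hPK i).eq_bot, finrank_bot] at e2
    have := hm i
    omega
  have hP0 : Module.finrank K (P 0) = 0 :=
    (LinearEquiv.ofEq (P 0) ⊥ rfl).finrank_eq.trans (finrank_bot K E)
  have hPs : ∀ b : Fin n, Module.finrank K (P b.succ) = a b.castSucc := fun b => by
    have e : a b.castSucc = Module.finrank K ((V b.castSucc).map (f b)) :=
      dif_pos (c := (b.castSucc : ℕ) < n) b.2
    rw [e]
    exact (LinearEquiv.ofEq (P b.succ) _ rfl).finrank_eq
  have hcard : Fintype.card (Σ i, Fin (m i)) = r := by
    rw [Fintype.card_sigma]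
    simp only [Fintype.card_fin]
    have key : ∀ p : ℕ, ∀ hp : p < n + 1,
        ∑ i : Fin (p + 1), m (i.castLE hp) = a ⟨p, hp⟩ := by
      intro p
      induction p with
      | zero =>
        intro hp
        rw [Fin.sum_univ_one]
        show m 0 = a 0
        have := hWdim 0; have := hKdim 0
        omega
      | succ p ih =>
        intro hp
        rw [Fin.sum_univ_castSucc]
        simp only [Fin.castLE_castSucc]
        rw [ih (by omega)]
        show a ⟨p, _⟩ + m ⟨p + 1, hp⟩ = a ⟨p + 1, hp⟩
        let b : Fin n := ⟨p, by omega⟩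
        have h1 : Module.finrank K (P ⟨p + 1, hp⟩) = a ⟨p, by omega⟩ := hPs b
        have := hWdim ⟨p + 1, hp⟩; have := hKdim ⟨p + 1, hp⟩
        omega
    simpa [a] using key n (Nat.lt_succ_self n)
  let ε := (Fintype.equivFinOfCardEq hcard).symm
  let c : Fin r → Fin (n + 1) := fun l => (ε l).1
  let w : Fin r → E := fun l => v (ε l).1 (ε l).2
  have hwV : ∀ l, w l ∈ V (c l) := fun l => hTV _ _ (hvT _ _)
  refine ⟨c, w, fun l => hvT _ _, ?_⟩
  let S : ℕ → Submodule K E := fun i => Submodule.span K (Set.range fun l => tr f g i (c l) (w l))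
  have hSV : ∀ i : Fin (n + 1), S i ≤ V i := fun i => Submodule.span_le.2 (by
    rintro _ ⟨l, rfl⟩
    exact tr_mem f g V hf hg i (c l) (hwV l))
  have hWS : ∀ i : Fin (n + 1), W i ≤ S i := fun i => Submodule.span_le.2 (by
    rintro _ ⟨j, rfl⟩
    refine Submodule.subset_span ⟨ε.symm ⟨i, j⟩, ?_⟩
    simp only [c, w]
    rw [ε.apply_symm_apply, tr_self]
    rfl)
  have hSf : ∀ i : Fin n, (S i).map (f i) ≤ S (i + 1) := fun i => by
    rw [Submodule.map_span, Submodule.span_le]
    rintro _ ⟨_, ⟨l, rfl⟩, rfl⟩
    exact map_f_tr_mem hI i _ _ (Submodule.subset_span ⟨l, rfl⟩)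
  have hSg : ∀ i : Fin n, (S (i + 1)).map (g i) ≤ S i := fun i => by
    rw [Submodule.map_span, Submodule.span_le]
    rintro _ ⟨_, ⟨l, rfl⟩, rfl⟩
    exact map_g_tr_mem hI i _ _ (Submodule.subset_span ⟨l, rfl⟩)
  -- the forward images lie in the spans
  have hPS : ∀ i : Fin (n + 1), P i ≤ S i := fun i => by
    induction i using Fin.induction with
    | zero => exact bot_le
    | succ b ih =>
      show (V b.castSucc).map (f b) ≤ _
      rw [← hWsup b.castSucc, Submodule.map_sup, Submodule.map_sup]
      refine sup_le ?_ (sup_le ?_ ?_)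
      · exact (Submodule.map_mono (hWS b.castSucc)).trans (hSf b)
      · exact (Submodule.map_mono ih).trans (hSf b)
      · refine (Submodule.map_mono ?_).trans
          (le_of_eq_of_le (LinearMap.le_ker_iff_map.1 le_rfl) bot_le)
        simp only [Kr, Fin.val_castSucc]
        rw [dif_pos b.2]
        exact inf_le_left
  have hVS : ∀ i : Fin (n + 1), V i ≤ S i := fun i => by
    induction i using Fin.reverseInduction with
    | last =>
      rw [← hWsup (Fin.last n)]
      exact sup_le (hWS _) (sup_le (hPS _) (by simp [Kr]))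
    | cast b ih =>
      rw [← hWsup b.castSucc]
      refine sup_le (hWS _) (sup_le (hPS _) ?_)
      simp only [Kr, Fin.val_castSucc]
      rw [dif_pos b.2]
      exact (hex b).trans ((Submodule.map_mono ih).trans (hSg b))
  intro i
  rw [linearIndependent_iff_card_eq_finrank_span, Fintype.card_fin, Set.finrank]
  show r = Module.finrank K (S i)
  rw [le_antisymm (hSV i) (hVS i), hV i]

/-- An exact linked tuple has a frame. -/
theorem exists_frame
    (hI : ∀ i, (f i).comp (g i) = s • LinearMap.id ∧ (g i).comp (f i) = s • LinearMap.id)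
    (hIII : ∀ i j : Fin n, i.val + 1 = j.val →
      LinearMap.range (f i) ⊓ LinearMap.ker (f j) = ⊥)
    (V : Fin (n + 1) → Submodule K E) (hV : ∀ i, Module.finrank K (V i) = r)
    (hf : ∀ i : Fin n, ∀ x ∈ V i.castSucc, f i x ∈ V i.succ)
    (hg : ∀ i : Fin n, ∀ x ∈ V i.succ, g i x ∈ V i.castSucc)
    (hex : ∀ i : Fin n, LinearMap.ker (f i) ⊓ V i.castSucc ≤ (V i.succ).map (g i)) :
    ∃ (c : Fin r → Fin (n + 1)) (w : Fin r → E), (∀ l, w l ∈ V (c l)) ∧
      ∀ i : Fin (n + 1), LinearIndependent K (fun l => tr f g i (c l) (w l)) :=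
  exists_frame_of_span f g hI hIII V hV hf hg hex (fun i => V i) fun i => Submodule.span_eq _

end Field

end Groth.Agent.H7LGr
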