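import Groth.Agent.H26Gr.Vanish
import Groth.Agent.H7LGr.Lin
import Groth.Prelude.Def_W4c1limliniiiiLG
import Mathlib.LinearAlgebra.Matrix.ToLin
import Mathlib.LinearAlgebra.Matrix.NonsingularInverse

/-!
# Points of linked Grassmannians spanned by transports of frames
-/

set_option autoImplicit false
set_option backward.isDefEq.respectTransparency false
set_option backward.isDefEq.respectTransparency.types false

universe u

open TensorProduct

namespace Groth.Agent.H7LGr

open H26Gr (bc bc_baseChange map_toSubmodule_eq_span)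

variable {R : Type u} [CommRing R] {M : Type u} [AddCommGroup M] [Module R M] {n r : ℕ}
  {A C : Type u} [CommRing A] [Algebra R A] [CommRing C] [Algebra R C]
  (f g : Fin n → M →ₗ[R] M) (c : Fin r → Fin (n + 1)) (L : Fin (n + 1) → M →ₗ[R] (Fin r → R))

/-- The combinations of the transports of a family of vectors into the `i`-th member. -/
noncomputable def comb (ω : Fin r → A ⊗[R] M) (i : Fin (n + 1)) : (Fin r → A) →ₗ[A] A ⊗[R] M :=
  Fintype.linearCombination A fun l => (tr f g i (c l)).baseChange A (ω l)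

/-- A functional on `M` read over an algebra. -/
noncomputable def readA (l : M →ₗ[R] (Fin r → R)) : A ⊗[R] M →ₗ[A] (Fin r → A) :=
  LinearMap.pi fun a => (AlgebraTensorModule.rid R A A).toLinearMap ∘ₗ ((LinearMap.proj a).comp l).baseChange A

/-- The matrix of a frame. -/
noncomputable def fmat (ω : Fin r → A ⊗[R] M) (i : Fin (n + 1)) : Matrix (Fin r) (Fin r) A :=
  Matrix.of fun a b => readA (L i) ((tr f g i (c b)).baseChange A (ω b)) a

variable {f g c L}

theorem comb_single (ω : Fin r → A ⊗[R] M) (i : Fin (n + 1)) (l : Fin r) :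
    comb f g c ω i (Pi.single l 1) = (tr f g i (c l)).baseChange A (ω l) := by
  simp [comb, Fintype.linearCombination_apply_single]

theorem range_comb (ω : Fin r → A ⊗[R] M) (i : Fin (n + 1)) :
    LinearMap.range (comb f g c ω i) =
      Submodule.span A (Set.range fun l => (tr f g i (c l)).baseChange A (ω l)) :=
  Fintype.range_linearCombination A _

theorem readA_bc (φ : A →ₐ[R] C) (l : M →ₗ[R] (Fin r → R)) (x : A ⊗[R] M) :
    readA l (bc M φ x) = fun a => φ (readA l x a) := by
  induction x using TensorProduct.induction_on with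
  | zero => funext a; simp [readA]
  | tmul b m => funext a; simp [readA, bc]
  | add x y hx hy => rw [map_add, map_add, hx, hy]; funext a; simp [map_add]

theorem fmat_bc (φ : A →ₐ[R] C) (ω : Fin r → A ⊗[R] M) (i : Fin (n + 1)) :
    fmat f g c L (fun l => bc M φ (ω l)) i = (fmat f g c L ω i).map φ := by
  ext a b
  simp [fmat, ← bc_baseChange, readA_bc]

theorem det_fmat_bc (φ : A →ₐ[R] C) (ω : Fin r → A ⊗[R] M) (i : Fin (n + 1)) :
    (fmat f g c L (fun l => bc M φ (ω l)) i).det = φ (fmat f g c L ω i).det := by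
  rw [fmat_bc]
  exact (φ.map_det _).symm

theorem readA_comb (ω : Fin r → A ⊗[R] M) (i : Fin (n + 1)) :
    readA (L i) ∘ₗ comb f g c ω i = Matrix.toLin' (fmat f g c L ω i) := by
  refine (Pi.basisFun A (Fin r)).ext fun l => ?_
  rw [LinearMap.comp_apply, Pi.basisFun_apply, comb_single, Matrix.toLin'_apply]
  funext a
  simp [fmat]

theorem exists_leftInverse (ω : Fin r → A ⊗[R] M) (i : Fin (n + 1))
    (h : IsUnit (fmat f g c L ω i).det) :
    ∃ P : A ⊗[R] M →ₗ[A] (Fin r → A), P ∘ₗ comb f g c ω i = LinearMap.id := by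
  refine ⟨Matrix.toLin' (fmat f g c L ω i)⁻¹ ∘ₗ readA (L i), ?_⟩
  rw [LinearMap.comp_assoc, readA_comb, ← Matrix.toLin'_mul, Matrix.nonsing_inv_mul _ h,
    Matrix.toLin'_one]

section Split

variable {N : Type u} [AddCommGroup N] [Module A N] [Module.Free A N] [Module.Finite A N]
  (Φ : (Fin r → A) →ₗ[A] N) (P : N →ₗ[A] (Fin r → A)) (hP : P ∘ₗ Φ = LinearMap.id)

include hP in
/-- The quotient by a split free submodule. -/
theorem split_quotient {d : ℕ} (hN : ∀ _ : Nontrivial A, Module.finrank A N = d) :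
    Module.Finite A (N ⧸ LinearMap.range Φ) ∧ Module.Projective A (N ⧸ LinearMap.range Φ) ∧
      ∀ p, Module.rankAtStalk (R := A) (N ⧸ LinearMap.range Φ) p = d - r := by
  have hP' : ∀ v, P (Φ v) = v := fun v => congr($hP v)
  let q : N →ₗ[A] N := LinearMap.id - Φ ∘ₗ P
  have hsplit : Function.Exact Φ (LinearMap.range Φ).mkQ :=
    LinearMap.exact_map_mkQ_range Φ
  have hker : LinearMap.ker q = LinearMap.range Φ := by
    ext x
    constructor
    · intro hx
      exact ⟨P x, (sub_eq_zero.1 hx).symm⟩
    · rintro ⟨v, rfl⟩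
      simp [q, hP']
  let σ : (N ⧸ LinearMap.range Φ) →ₗ[A] N := (LinearMap.range Φ).liftQ q hker.ge
  have hσ : (LinearMap.range Φ).mkQ ∘ₗ σ = LinearMap.id := by
    refine Submodule.linearMap_qext _ (LinearMap.ext fun x => ?_)
    show Submodule.Quotient.mk (x - Φ (P x)) = Submodule.Quotient.mk x
    rw [Submodule.Quotient.eq]
    exact ⟨-P x, by simp⟩
  have hfin : Module.Finite A (N ⧸ LinearMap.range Φ) :=
    Module.Finite.of_surjective _ (Submodule.mkQ_surjective _)
  have hproj : Module.Projective A (N ⧸ LinearMap.range Φ) := Module.Projective.of_split σ _ hσ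
  refine ⟨hfin, hproj, fun p => ?_⟩
  haveI : Nontrivial A := p.nontrivial
  let e : ((Fin r → A) × (N ⧸ LinearMap.range Φ)) ≃ₗ[A] N :=
    LinearEquiv.ofLinearMap (Φ.coprod σ) (P.prod (LinearMap.range Φ).mkQ)
      (LinearMap.ext fun x => by
        show Φ (P x) + (x - Φ (P x)) = x
        abel)
      (LinearMap.ext fun ⟨v, y⟩ => by
        obtain ⟨x, rfl⟩ := Submodule.Quotient.mk_surjective _ y
        refine Prod.ext ?_ ?_
        · show P (Φ v + (x - Φ (P x))) = v
          simp [hP']
        · show Submodule.Quotient.mk (Φ v + (x - Φ (P x))) = Submodule.Quotient.mk x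
          rw [Submodule.Quotient.eq]
          exact ⟨v - P x, by rw [map_sub]; abel⟩)
  have h2 := congrFun (Module.rankAtStalk_eq_of_equiv e) p
  rw [Module.rankAtStalk_prod, Pi.add_apply,
    Module.rankAtStalk_eq_finrank_of_free (R := A) (M := Fin r → A),
    Module.rankAtStalk_eq_finrank_of_free (R := A) (M := N)] at h2
  simp [hN ‹_›] at h2
  omega

end Split

/-- Two points of a Grassmannian contained in one another are equal. -/
theorem grassmannian_eq_of_le {N : Type u} [AddCommGroup N] [Module A N] {k : ℕ}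
    (V W : Module.Grassmannian A N k) (h : V.toSubmodule ≤ W.toSubmodule) : V = W := by
  let π : (N ⧸ V.toSubmodule) →ₗ[A] N ⧸ W.toSubmodule := Submodule.factor h
  have hπ : Function.Surjective π := Submodule.factor_surjective h
  obtain ⟨σ, hσ⟩ := Module.projective_lifting_property π LinearMap.id hπ
  have hσ' : ∀ y, π (σ y) = y := fun y => congr($hσ y)
  let K := LinearMap.ker π
  let q : (N ⧸ V.toSubmodule) →ₗ[A] K := (LinearMap.id - σ ∘ₗ π).codRestrict K fun x => by
    simp [K, hσ']
  have hq : q ∘ₗ K.subtype = LinearMap.id := LinearMap.ext fun x => Subtype.ext (by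
    show (x : N ⧸ V.toSubmodule) - σ (π x) = x
    rw [show π (x : N ⧸ V.toSubmodule) = 0 from x.2, map_zero, sub_zero])
  haveI : Module.Projective A K := Module.Projective.of_split K.subtype q hq
  haveI : Module.Finite A K :=
    Module.Finite.of_surjective q fun x => ⟨x, congr($hq x)⟩
  let e : (N ⧸ V.toSubmodule) ≃ₗ[A] (N ⧸ W.toSubmodule) × K :=
    LinearEquiv.ofLinearMap (π.prod q) (σ.coprod K.subtype)
      (LinearMap.ext fun ⟨y, x⟩ => by
        have hx : π (x : N ⧸ V.toSubmodule) = 0 := x.2
        refine Prod.ext ?_ (Subtype.ext ?_)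
        · show π (σ y + x) = y
          rw [map_add, hσ', hx, add_zero]
        · show σ y + x - σ (π (σ y + x)) = x
          rw [map_add, hσ', hx, add_zero]
          abel)
      (LinearMap.ext fun x => by
        show σ (π x) + (x - σ (π x)) = x
        abel)
  have h0 : Module.rankAtStalk (R := A) K = 0 := funext fun p => by
    have h1 := congrFun (Module.rankAtStalk_eq_of_equiv e) p
    rw [Module.rankAtStalk_prod, Pi.add_apply, V.rankAtStalk_eq, W.rankAtStalk_eq] at h1
    simp only [Pi.zero_apply]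
    omega
  haveI : Subsingleton K := Module.rankAtStalk_eq_zero_iff_subsingleton.1 h0
  refine Module.Grassmannian.ext (le_antisymm h fun x hx => ?_)
  have hx' : (Submodule.Quotient.mk x : N ⧸ V.toSubmodule) ∈ K := by
    show π (Submodule.Quotient.mk x) = 0
    exact (Submodule.Quotient.mk_eq_zero _).2 hx
  have := congrArg Subtype.val (Subsingleton.elim (⟨_, hx'⟩ : K) 0)
  exact (Submodule.Quotient.mk_eq_zero _).1 this

section Point

variable {d : ℕ} {F G : Fin n → (Fin d → R) →ₗ[R] (Fin d → R)}
  {Lm : Fin (n + 1) → (Fin d → R) →ₗ[R] (Fin r → R)}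

theorem finrank_free (hA : Nontrivial A) : Module.finrank A (A ⊗[R] (Fin d → R)) = d := by
  rw [Module.finrank_eq_card_basis ((Pi.basisFun R (Fin d)).baseChange A), Fintype.card_fin]

/-- The point spanned by the transports of a frame. -/
noncomputable def framePt (ω : Fin r → A ⊗[R] (Fin d → R))
    (h : ∀ i, IsUnit (fmat F G c Lm ω i).det) (i : Fin (n + 1)) :
    Module.Grassmannian A (A ⊗[R] (Fin d → R)) (d - r) where
  toSubmodule := LinearMap.range (comb F G c ω i)
  finite_quotient := by
    obtain ⟨P, hP⟩ := exists_leftInverse ω i (h i)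
    exact (split_quotient _ P hP fun h => finrank_free (R := R) (d := d) h).1
  projective_quotient := by
    obtain ⟨P, hP⟩ := exists_leftInverse ω i (h i)
    exact (split_quotient _ P hP fun h => finrank_free (R := R) (d := d) h).2.1
  rankAtStalk_eq := by
    obtain ⟨P, hP⟩ := exists_leftInverse ω i (h i)
    exact (split_quotient _ P hP fun h => finrank_free (R := R) (d := d) h).2.2

theorem framePt_mem_LGPoints {s : R}
    (hI : ∀ i, (F i).comp (G i) = s • LinearMap.id ∧ (G i).comp (F i) = s • LinearMap.id)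
    (ω : Fin r → A ⊗[R] (Fin d → R)) (h : ∀ i, IsUnit (fmat F G c Lm ω i).det) :
    (fun i => framePt ω h i) ∈ W4c1limliniiii.LGPoints R d r n F G A := by
  have hIA : ∀ i, ((F i).baseChange A).comp ((G i).baseChange A) = algebraMap R A s • LinearMap.id ∧
      ((G i).baseChange A).comp ((F i).baseChange A) = algebraMap R A s • LinearMap.id := fun i => by
    rw [← LinearMap.baseChange_comp, ← LinearMap.baseChange_comp, (hI i).1, (hI i).2,
      LinearMap.baseChange_smul, LinearMap.baseChange_id, algebraMap_smul]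
    exact ⟨rfl, rfl⟩
  intro i
  show Submodule.map _ (LinearMap.range (comb F G c ω i.castSucc)) ≤
      LinearMap.range (comb F G c ω i.succ) ∧
    Submodule.map _ (LinearMap.range (comb F G c ω i.succ)) ≤
      LinearMap.range (comb F G c ω i.castSucc)
  simp only [range_comb, Submodule.map_span, Submodule.span_le]
  simp only [← baseChange_tr, Fin.val_castSucc, Fin.val_succ]
  constructor
  · rintro _ ⟨_, ⟨l, rfl⟩, rfl⟩
    exact map_f_tr_mem hIA i _ _ (Submodule.subset_span ⟨l, rfl⟩)
  · rintro _ ⟨_, ⟨l, rfl⟩, rfl⟩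
    exact map_g_tr_mem hIA i _ _ (Submodule.subset_span ⟨l, rfl⟩)

theorem isUnit_det_bc (φ : A →ₐ[R] C) (ω : Fin r → A ⊗[R] (Fin d → R))
    (h : ∀ i, IsUnit (fmat F G c Lm ω i).det) :
    ∀ i, IsUnit (fmat F G c Lm (fun l => bc _ φ (ω l)) i).det := fun i => by
  rw [det_fmat_bc]
  exact (h i).map φ

theorem map_framePt (φ : A →ₐ[R] C) (ω : Fin r → A ⊗[R] (Fin d → R))
    (h : ∀ i, IsUnit (fmat F G c Lm ω i).det) (i : Fin (n + 1)) :
    Module.Grassmannian.map φ (framePt ω h i) =
      framePt (fun l => bc _ φ (ω l)) (isUnit_det_bc φ ω h) i := by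
  refine (grassmannian_eq_of_le _ _ ?_).symm
  show LinearMap.range (comb F G c _ i) ≤ _
  rw [range_comb, map_toSubmodule_eq_span, Submodule.span_le]
  rintro _ ⟨l, rfl⟩
  refine Submodule.subset_span ⟨_, ?_, bc_baseChange φ _ (ω l)⟩
  show _ ∈ LinearMap.range (comb F G c ω i)
  exact ⟨Pi.single l 1, comb_single ω i l⟩

/-- A linked point containing a frame is the point of the frame. -/
theorem framePt_eq (V : Fin (n + 1) → Module.Grassmannian A (A ⊗[R] (Fin d → R)) (d - r))
    (hV : V ∈ W4c1limliniiii.LGPoints R d r n F G A)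
    (ω : Fin r → A ⊗[R] (Fin d → R)) (hω : ∀ l, ω l ∈ (V (c l)).toSubmodule)
    (h : ∀ i, IsUnit (fmat F G c Lm ω i).det) : (fun i => framePt ω h i) = V := by
  funext i
  refine grassmannian_eq_of_le _ _ ?_
  show LinearMap.range (comb F G c ω i) ≤ _
  rw [range_comb, Submodule.span_le]
  rintro _ ⟨l, rfl⟩
  show (tr F G i (c l)).baseChange A (ω l) ∈ (V i).toSubmodule
  rw [← baseChange_tr]
  exact tr_mem _ _ (fun j => (V j).toSubmodule) (fun j x hx => (hV j).1 ⟨x, hx, rfl⟩)
    (fun j x hx => (hV j).2 ⟨x, hx, rfl⟩) i (c l) (hω l)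

end Point

end Groth.Agent.H7LGr
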