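import Groth.Agent.H26Gr.Represent
import Groth.Agent.H7LGr.Frame

/-!
# Chart data of a linked Grassmannian

A chart datum places `r` vectors in the members of the tuple, the `l`-th one in standard position
`p l` with free coordinates along the chosen complementary coordinates of its member.
-/

set_option autoImplicit false
set_option backward.isDefEq.respectTransparency false
set_option backward.isDefEq.respectTransparency.types false

universe u

open CategoryTheory TensorProduct

namespace Groth.Agent.H7LGr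

open H26Gr (bc bb Jc secMap InChart bc_smul bc_bb inChart_iff inChart_point_iff map_toSubmodule_eq_span)

/-- A chart datum. -/
structure Ch (d r n : ℕ) where
  /-- the member of each vector -/
  c : Fin r → Fin (n + 1)
  /-- the position of each vector -/
  p : Fin r → Fin d
  /-- coordinates complementary to each member -/
  S : Fin (n + 1) → (Fin (d - r) ↪ Fin d)

instance (d r n : ℕ) : Finite (Ch d r n) :=
  Finite.of_injective (fun q : Ch d r n => (q.c, q.p, q.S)) fun ⟨_, _, _⟩ ⟨_, _, _⟩ h => by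
    simp only [Prod.mk.injEq] at h
    obtain ⟨rfl, rfl, rfl⟩ := h
    rfl

variable {R : Type u} [CommRing R] {d r n : ℕ} (hrd : r ≤ d)
  (f g : Fin n → (Fin d → R) →ₗ[R] (Fin d → R)) (q : Ch d r n)
  {A C : Type u} [CommRing A] [Algebra R A] [CommRing C] [Algebra R C]

include hrd in
theorem card_Jc (i : Fin (n + 1)) : Fintype.card (Jc (q.S i)) = r := by
  classical
  have h1 : Fintype.card {x // x ∈ Set.range (q.S i)} = d - r :=
    (Fintype.card_congr (Equiv.ofInjective _ (q.S i).injective)).symm.trans (Fintype.card_fin _)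
  have h2 := Fintype.card_subtype_compl (fun x : Fin d => x ∈ Set.range (q.S i))
  rw [h1, Fintype.card_fin] at h2
  show Fintype.card {x : Fin d // ¬ x ∈ Set.range (q.S i)} = r
  omega

/-- The coordinates of the `i`-th member. -/
noncomputable def emb (i : Fin (n + 1)) : Fin r ≃ Jc (q.S i) :=
  open Classical in (Fintype.equivFinOfCardEq (card_Jc hrd q i)).symm

variable (R) in
/-- The projection onto the coordinates of the `i`-th member. -/
noncomputable def proj (i : Fin (n + 1)) : (Fin d → R) →ₗ[R] (Fin r → R) :=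
  LinearMap.funLeft R R fun a => (emb hrd q i a).1

variable (R) in
/-- The vectors of the chart datum with given coordinates. -/
noncomputable def omega (z : Fin r × Fin (d - r) → A) (l : Fin r) : A ⊗[R] (Fin d → R) :=
  bb R A (q.p l) - secMap R (q.S (q.c l)) (fun j => z (l, j))

/-- The function whose invertibility makes the vectors a frame. -/
noncomputable def Dq (z : Fin r × Fin (d - r) → A) : A :=
  ∏ i, (fmat f g q.c (proj R hrd q) (omega R q z) i).det

theorem bc_omega (φ : A →ₐ[R] C) (z : Fin r × Fin (d - r) → A) :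
    (fun l => bc (Fin d → R) φ (omega R q z l)) = omega R q (φ ∘ z) := by
  funext l
  rw [omega, omega, map_sub, bc_bb]
  congr 1
  simp only [secMap, Fintype.linearCombination_apply, map_sum, bc_smul, bc_bb, Function.comp_apply]

theorem map_Dq (φ : A →ₐ[R] C) (z : Fin r × Fin (d - r) → A) :
    φ (Dq hrd f g q z) = Dq hrd f g q (φ ∘ z) := by
  simp only [Dq, map_prod, ← bc_omega, det_fmat_bc]

variable {hrd f g q}

theorem isUnit_det {z : Fin r × Fin (d - r) → A} (h : IsUnit (Dq hrd f g q z)) (i : Fin (n + 1)) :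
    IsUnit (fmat f g q.c (proj R hrd q) (omega R q z) i).det :=
  (IsUnit.prod_univ_iff.1 h) i

theorem readA_proj (i : Fin (n + 1)) (x : A ⊗[R] (Fin d → R)) (a : Fin r) :
    readA (proj R hrd q i) x a = (bb R A).repr x (emb hrd q i a).1 := by
  induction x using TensorProduct.induction_on with
  | zero => simp
  | tmul b m => simp [readA, proj, bb, LinearMap.funLeft, Module.Basis.baseChange_repr_tmul]
  | add x y hx hy => simp only [map_add, Pi.add_apply, Finsupp.coe_add, hx, hy]

theorem mem_span_of_readA_eq_zero (i : Fin (n + 1)) {x : A ⊗[R] (Fin d → R)}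
    (h : readA (proj R hrd q i) x = 0) :
    x ∈ Submodule.span A (Set.range fun j => bb R A (q.S i j)) := by
  rw [← (bb R A).sum_repr x]
  refine Submodule.sum_mem _ fun a _ => ?_
  by_cases ha : a ∈ Set.range (q.S i)
  · obtain ⟨j, rfl⟩ := ha
    exact Submodule.smul_mem _ _ (Submodule.subset_span ⟨j, rfl⟩)
  · have := congrFun h ((emb hrd q i).symm ⟨a, ha⟩)
    rw [readA_proj, Equiv.apply_symm_apply] at this
    simp only [Pi.zero_apply] at this
    rw [this, zero_smul]
    exact zero_mem _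

theorem readA_bb_S (i : Fin (n + 1)) (j : Fin (d - r)) :
    readA (proj R hrd q i) (bb R A (q.S i j)) = 0 := by
  funext a
  rw [readA_proj, Module.Basis.repr_self, Pi.zero_apply]
  exact Finsupp.single_eq_of_ne fun e => (emb hrd q i a).2 ⟨j, e.symm⟩

theorem readA_secMap (i : Fin (n + 1)) (v : Fin (d - r) → A) :
    readA (proj R hrd q i) (secMap R (q.S i) v) = 0 := by
  rw [secMap, Fintype.linearCombination_apply, map_sum]
  exact Finset.sum_eq_zero fun j _ => by rw [map_smul, readA_bb_S, smul_zero]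

variable (hrd f g q)

/-- A linked tuple lies in the chart of a datum. -/
def Has (V : Fin (n + 1) → Module.Grassmannian A (A ⊗[R] (Fin d → R)) (d - r)) : Prop :=
  ∃ z, IsUnit (Dq hrd f g q z) ∧ ∀ l, omega R q z l ∈ (V (q.c l)).toSubmodule

variable {hrd f g q}

theorem Has.eq_framePt {V : Fin (n + 1) → Module.Grassmannian A (A ⊗[R] (Fin d → R)) (d - r)}
    (hV : V ∈ W4c1limliniiii.LGPoints R d r n f g A) {z : Fin r × Fin (d - r) → A}
    (hz : IsUnit (Dq hrd f g q z)) (hm : ∀ l, omega R q z l ∈ (V (q.c l)).toSubmodule) :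
    V = fun i => framePt (omega R q z) (isUnit_det hz) i :=
  (framePt_eq V hV _ hm (isUnit_det hz)).symm

/-- The coordinates in a chart are unique. -/
theorem Has.unique {V : Fin (n + 1) → Module.Grassmannian A (A ⊗[R] (Fin d → R)) (d - r)}
    (hV : V ∈ W4c1limliniiii.LGPoints R d r n f g A) {z z' : Fin r × Fin (d - r) → A}
    (hz : IsUnit (Dq hrd f g q z)) (hm : ∀ l, omega R q z l ∈ (V (q.c l)).toSubmodule)
    (hm' : ∀ l, omega R q z' l ∈ (V (q.c l)).toSubmodule) : z' = z := by
  funext ⟨l, j⟩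
  have hd : omega R q z' l - omega R q z l ∈ (V (q.c l)).toSubmodule := sub_mem (hm' l) (hm l)
  rw [Has.eq_framePt hV hz hm] at hd
  obtain ⟨u, hu⟩ : omega R q z' l - omega R q z l ∈ LinearMap.range (comb f g q.c (omega R q z) (q.c l)) := hd
  have hsub : omega R q z' l - omega R q z l =
      secMap R (q.S (q.c l)) ((fun j => z (l, j)) - fun j => z' (l, j)) := by
    rw [omega, omega, map_sub]
    abel
  have h0 := congrArg (readA (proj R hrd q (q.c l))) (hu.trans hsub)
  rw [readA_secMap, ← LinearMap.comp_apply, readA_comb, Matrix.toLin'_apply] at h0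
  obtain rfl : u = 0 := Matrix.mulVec_injective_of_isUnit
    ((Matrix.isUnit_iff_isUnit_det _).2 (isUnit_det hz (q.c l))) (by rw [h0, Matrix.mulVec_zero])
  rw [map_zero] at hu
  have h1 := congrArg (fun x => (bb R A).repr x (q.S (q.c l) j)) (hu.trans hsub)
  simp only [secMap, Fintype.linearCombination_apply, map_zero, map_sum, map_smul,
    Module.Basis.repr_self, Finsupp.coe_zero, Pi.zero_apply, Finsupp.coe_finsetSum, Finset.sum_apply,
    Finsupp.smul_single, smul_eq_mul, mul_one] at h1
  rw [Finset.sum_eq_single j (fun b _ hb => Finsupp.single_eq_of_ne fun e => hb ((q.S (q.c l)).injective e).symm)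
    (by simp), Finsupp.single_eq_same, Pi.sub_apply] at h1
  exact (sub_eq_zero.1 h1.symm).symm

theorem Has.inChart {V : Fin (n + 1) → Module.Grassmannian A (A ⊗[R] (Fin d → R)) (d - r)}
    (hV : V ∈ W4c1limliniiii.LGPoints R d r n f g A) (h : Has hrd f g q V) (i : Fin (n + 1)) :
    InChart R (q.S i) (V i) := by
  obtain ⟨z, hz, hm⟩ := h
  rw [Has.eq_framePt hV hz hm]
  refine eq_top_iff.2 fun v _ => ?_
  let F := fmat f g q.c (proj R hrd q) (omega R q z) i
  let u := F⁻¹.mulVec (readA (proj R hrd q i) v)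
  refine Submodule.mem_sup.2 ⟨comb f g q.c (omega R q z) i u, ⟨u, rfl⟩, _,
    mem_span_of_readA_eq_zero (hrd := hrd) i (x := v - comb f g q.c (omega R q z) i u) ?_,
    add_sub_cancel _ _⟩
  rw [map_sub, ← LinearMap.comp_apply (readA _) (comb _ _ _ _ _), readA_comb, Matrix.toLin'_apply]
  show _ - F.mulVec (F⁻¹.mulVec _) = 0
  rw [Matrix.mulVec_mulVec, Matrix.mul_nonsing_inv _ (isUnit_det hz i), Matrix.one_mulVec, sub_self]

theorem exists_coord {V : Fin (n + 1) → Module.Grassmannian A (A ⊗[R] (Fin d → R)) (d - r)}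
    (h : ∀ i, InChart R (q.S i) (V i)) :
    ∃ z, ∀ l, omega R q z l ∈ (V (q.c l)).toSubmodule := by
  have : ∀ l, ∃ v : Fin (d - r) → A,
      bb R A (q.p l) - secMap R (q.S (q.c l)) v ∈ (V (q.c l)).toSubmodule := fun l => by
    obtain ⟨a, ha, b, hb, hab⟩ := Submodule.mem_sup.1
      ((h (q.c l)).symm ▸ Submodule.mem_top (x := bb R A (q.p l)))
    obtain ⟨v, hv⟩ := (Submodule.mem_span_range_iff_exists_fun A).1 hb
    refine ⟨v, ?_⟩
    rw [show secMap R (q.S (q.c l)) v = b from hv ▸ Fintype.linearCombination_apply A _ v, ← hab,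
      add_sub_cancel_right]
    exact ha
  choose v hv using this
  exact ⟨fun lj => v lj.1 lj.2, hv⟩

theorem mem_map_of_mem (φ : A →ₐ[R] C) {V : Fin (n + 1) → Module.Grassmannian A (A ⊗[R] (Fin d → R)) (d - r)}
    {z : Fin r × Fin (d - r) → A} (hm : ∀ l, omega R q z l ∈ (V (q.c l)).toSubmodule) (l : Fin r) :
    omega R q (φ ∘ z) l ∈ (Module.Grassmannian.map φ (V (q.c l))).toSubmodule := by
  rw [← bc_omega q φ z, map_toSubmodule_eq_span]
  exact Submodule.subset_span ⟨_, hm l, rfl⟩

theorem Has.map (φ : A →ₐ[R] C) {V : Fin (n + 1) → Module.Grassmannian A (A ⊗[R] (Fin d → R)) (d - r)}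
    (h : Has hrd f g q V) : Has hrd f g q fun i => Module.Grassmannian.map φ (V i) := by
  obtain ⟨z, hz, hm⟩ := h
  exact ⟨φ ∘ z, map_Dq hrd f g q φ z ▸ hz.map φ, mem_map_of_mem φ hm⟩

theorem map_mem_LGPoints (φ : A →ₐ[R] C) {V : Fin (n + 1) → Module.Grassmannian A (A ⊗[R] (Fin d → R)) (d - r)}
    (hV : V ∈ W4c1limliniiii.LGPoints R d r n f g A) :
    (fun i => Module.Grassmannian.map φ (V i)) ∈ W4c1limliniiii.LGPoints R d r n f g C := fun i => by
  simp only [map_toSubmodule_eq_span, Submodule.map_span, Submodule.span_le]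
  constructor
  · rintro _ ⟨_, ⟨x, hx, rfl⟩, rfl⟩
    exact Submodule.subset_span ⟨_, (hV i).1 ⟨x, hx, rfl⟩, H26Gr.bc_baseChange φ _ x⟩
  · rintro _ ⟨_, ⟨x, hx, rfl⟩, rfl⟩
    exact Submodule.subset_span ⟨_, (hV i).2 ⟨x, hx, rfl⟩, H26Gr.bc_baseChange φ _ x⟩

/-- Lying in a chart is tested at the primes. -/
theorem has_of_pointwise {A : CommAlgCat.{u} R}
    {V : Fin (n + 1) → Module.Grassmannian A (A ⊗[R] (Fin d → R)) (d - r)}
    (hV : V ∈ W4c1limliniiii.LGPoints R d r n f g A)
    (h : ∀ P : PrimeSpectrum A, ∃ (K : CommAlgCat.{u} R) (_ : Subsingleton (PrimeSpectrum K))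
      (φ : A ⟶ K) (z₀ : PrimeSpectrum K), PrimeSpectrum.comap φ.hom.toRingHom z₀ = P ∧
        Has hrd f g q fun i => Module.Grassmannian.map φ.hom (V i)) :
    Has hrd f g q V := by
  have hC : ∀ i, InChart R (q.S i) (V i) := fun i => (inChart_iff R _ _).2 fun P => by
    obtain ⟨K, hK, φ, z₀, hz₀, hhas⟩ := h P
    rw [← hz₀]
    exact (inChart_point_iff (q.S i) (V i) φ z₀).1 (hhas.inChart (map_mem_LGPoints φ.hom hV) i)
  obtain ⟨z, hz⟩ := exists_coord hC
  refine ⟨z, ?_, hz⟩
  by_contra hu
  obtain ⟨m, hm, hDm⟩ := exists_max_ideal_of_mem_nonunits (a := Dq hrd f g q z) hu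
  obtain ⟨K, hK, φ, z₀, hz₀, z', hu', hm'⟩ := h ⟨m, hm.isPrime⟩
  have := Has.unique (map_mem_LGPoints φ.hom hV) hu' hm' (mem_map_of_mem φ.hom hz)
  rw [← this, ← map_Dq] at hu'
  refine z₀.isPrime.ne_top (Ideal.eq_top_of_isUnit_mem _ ?_ hu')
  have : Dq hrd f g q z ∈ (PrimeSpectrum.comap φ.hom.toRingHom z₀).asIdeal := by rw [hz₀]; exact hDm
  exact this

end Groth.Agent.H7LGr
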