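import Groth.Agent.H7LGr.Locus

/-!
# Generic points of components
-/

set_option autoImplicit false

universe u

open AlgebraicGeometry

namespace Groth.Agent.H7LGr

/-- The generic point of a component has no other generisation. -/
theorem exists_maximal_genericPoint {X : Scheme.{u}} {Z : Set X} (hZ : Z ∈ irreducibleComponents X) :
    ∃ η : X, closure ({η} : Set X) = Z ∧ ∀ y : X, y ⤳ η → y = η := by
  let η := genericPoints.ofComponent ⟨Z, hZ⟩
  have h : closure ({η.1} : Set X) = Z := genericPoints.isGenericPoint_ofComponent ⟨Z, hZ⟩
  refine ⟨η.1, h, fun y hy => ?_⟩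
  have hle : Z ⊆ closure ({y} : Set X) :=
    h ▸ closure_minimal (Set.singleton_subset_iff.2 hy.mem_closure) isClosed_closure
  have heq : closure ({y} : Set X) = Z := le_antisymm (hZ.2 isIrreducible_singleton.closure hle) hle
  exact (IsGenericPoint.eq (x := y) heq h : y = η.1)

end Groth.Agent.H7LGr
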