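import Groth.Agent.H26Gr.Fam
import Mathlib.AlgebraicGeometry.OpenImmersion

/-!
# Recognising affine open subschemes from points
-/

set_option autoImplicit false
set_option backward.isDefEq.respectTransparency false
set_option backward.isDefEq.respectTransparency.types false

universe u

open CategoryTheory AlgebraicGeometry

namespace Groth.Agent.H7LGr

open H26Gr (SR smap smap_injective exists_smap_eq smap_id exists_hom_of_points hom_ext_points)

/-- An affine point through which exactly the points landing in an open set factor, uniquely,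
is an open immersion onto that set. -/
theorem isOpenImmersion_of_points {R : Type u} [CommRing R] {X : Over (Spec (CommRingCat.of R))}
    {B : CommAlgCat.{u} R} (x₀ : SR B ⟶ X) (U : X.left.Opens)
    (h : ∀ (A : CommAlgCat.{u} R) (g : SR A ⟶ X),
      (∃ φ : B ⟶ A, smap φ ≫ x₀ = g) ↔ Set.range g.left ⊆ (U : Set X.left))
    (hinj : ∀ (A : CommAlgCat.{u} R) (φ ψ : B ⟶ A), smap φ ≫ x₀ = smap ψ ≫ x₀ → φ = ψ) :
    IsOpenImmersion x₀.left ∧ Set.range x₀.left = (U : Set X.left) := by
  let UX : Over (Spec (CommRingCat.of R)) := Over.mk (U.ι ≫ X.hom)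
  let i : UX ⟶ X := Over.homMk U.ι rfl
  have hx₀ : Set.range x₀.left ⊆ (U : Set X.left) :=
    (h B x₀).1 ⟨𝟙 B, by rw [smap_id, Category.id_comp]⟩
  have hrange : ∀ (A : CommAlgCat.{u} R) (g : SR A ⟶ UX), Set.range (g ≫ i).left ⊆ (U : Set X.left) := by
    rintro A g _ ⟨p, rfl⟩
    exact (g.left p).2
  choose η hη using fun (A : CommAlgCat.{u} R) (g : SR A ⟶ UX) => (h A (g ≫ i)).2 (hrange A g)
  obtain ⟨c, hc⟩ := exists_hom_of_points (X := UX) (Y := SR B) (fun A g => smap (η A g))
    fun A A' φ g g' hg => by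
      have : η A' g' = η A g ≫ φ := hinj A' _ _ (by
        rw [hη, H26Gr.smap_comp, Category.assoc, hη, ← Category.assoc]
        congr 1
        exact Over.OverMorphism.ext hg)
      rw [this, H26Gr.smap_comp]
      rfl
  let j : SR B ⟶ UX := Over.homMk (IsOpenImmersion.lift U.ι x₀.left (U.range_ι.symm ▸ hx₀)) (by
    show _ ≫ U.ι ≫ X.hom = _
    rw [IsOpenImmersion.lift_fac_assoc]
    exact Over.w x₀)
  have hji : j ≫ i = x₀ := Over.OverMorphism.ext (IsOpenImmersion.lift_fac _ _ _)
  have hcj : c ≫ j = 𝟙 UX := hom_ext_points fun A g => by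
    have e : g ≫ c ≫ j ≫ i = g ≫ i := by
      rw [← Category.assoc, hc, hji, hη]
    refine Over.OverMorphism.ext ((cancel_mono U.ι).1 ?_)
    rw [Category.comp_id]
    simpa [i] using congrArg (fun t : SR A ⟶ X => t.left) e
  have hjc : j ≫ c = 𝟙 (SR B) := hom_ext_points fun A g => by
    obtain ⟨φ, rfl⟩ := exists_smap_eq g
    rw [← Category.assoc, hc, Category.comp_id]
    congr 1
    refine hinj A _ _ ?_
    rw [hη, Category.assoc, hji]
  haveI : IsIso j := ⟨c, hjc, hcj⟩
  haveI : IsIso j.left := (Over.forget _).map_isIso j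
  have hfac : x₀.left = j.left ≫ U.ι := (congrArg (fun t : SR B ⟶ X => t.left) hji).symm
  refine ⟨hfac ▸ (inferInstance : IsOpenImmersion (j.left ≫ U.ι)), ?_⟩
  refine le_antisymm hx₀ fun x hx => ?_
  obtain ⟨p, hp⟩ := (Scheme.homeoOfIso (asIso j.left)).surjective ⟨x, hx⟩
  refine ⟨p, ?_⟩
  rw [hfac, Scheme.Hom.comp_apply]
  show U.ι (j.left p) = x
  rw [show j.left p = ⟨x, hx⟩ from hp]
  rfl

end Groth.Agent.H7LGr
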