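import Groth.Agent.H7LGr.Chart
import Groth.Agent.H7LGr.PointImm

/-!
# The chart loci of a scheme representing a linked Grassmannian
-/

set_option autoImplicit false
set_option backward.isDefEq.respectTransparency false
set_option backward.isDefEq.respectTransparency.types false

universe u

open CategoryTheory AlgebraicGeometry TensorProduct

namespace Groth.Agent.H7LGr

open H26Gr (SR smap gOf ofPt Fam resPt exists_residue_fac exists_lift_away inChart_iff locus isOpen_locus
  mem_locus_iff)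

noncomputable section

variable {R : Type u} [CommRing R] {d r n : ℕ} (hrd : r ≤ d)
  {f g : Fin n → (Fin d → R) →ₗ[R] (Fin d → R)} {X : Over (Spec (CommRingCat.of R))}
  (e : ∀ A : CommAlgCat.{u} R, (SR A ⟶ X) ≃ W4c1limliniiii.LGPoints R d r n f g A)
  (q : Ch d r n)

/-- The tuple at a point of the scheme. -/
abbrev tupleAt (x : X.left) :=
  (e (ofPt (X.left.fromSpecResidueField x)) (resPt X x)).1

/-- The chart locus. -/
def chartSet : Set X.left := {x | Has hrd f g q (tupleAt e x)}

variable {e} (he : ∀ (A B : CommAlgCat.{u} R) (φ : A ⟶ B) (x : SR A ⟶ X) (x' : SR B ⟶ X),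
    x'.left = Spec.map (CommRingCat.ofHom φ.hom.toRingHom) ≫ x.left →
      ∀ i, (e B x').1 i = Module.Grassmannian.map φ.hom ((e A x).1 i))

include he in
theorem e_smap {A B : CommAlgCat.{u} R} (φ : A ⟶ B) (x : SR A ⟶ X) :
    (e B (smap φ ≫ x)).1 = fun i => Module.Grassmannian.map φ.hom ((e A x).1 i) :=
  funext (he A B φ x (smap φ ≫ x) rfl)

variable {hrd q}

include he in
theorem mem_chartSet_iff {A : CommAlgCat.{u} R} (x : SR A ⟶ X) (P : PrimeSpectrum A) :
    x.left P ∈ chartSet hrd e q ↔ ∃ (K : CommAlgCat.{u} R) (_ : Subsingleton (PrimeSpectrum K))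
      (φ : A ⟶ K) (z₀ : PrimeSpectrum K), PrimeSpectrum.comap φ.hom.toRingHom z₀ = P ∧
        Has hrd f g q fun i => Module.Grassmannian.map φ.hom ((e A x).1 i) := by
  constructor
  · intro h
    obtain ⟨K, hK, z₀, φ, ψ, hz, hfac⟩ := exists_residue_fac x P
    refine ⟨K, hK, φ, z₀, hz, ?_⟩
    rw [← e_smap he φ x, hfac, e_smap he]
    exact Has.map ψ.hom h
  · rintro ⟨K, hK, φ, z₀, hz, hhas⟩
    obtain ⟨K', hK', z', φ', ψ', hz', hfac'⟩ := exists_residue_fac (smap φ ≫ x) z₀
    have hP : (smap φ ≫ x).left z₀ = x.left P := by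
      rw [← hz]; rfl
    have h1 : Has hrd f g q fun i => Module.Grassmannian.map φ'.hom ((e K (smap φ ≫ x)).1 i) := by
      rw [e_smap he φ x]
      exact Has.map φ'.hom hhas
    rw [← e_smap he φ', hfac', e_smap he] at h1
    have h2 : Has hrd f g q (tupleAt e ((smap φ ≫ x).left z₀)) :=
      has_of_pointwise (e _ _).2 fun p =>
        ⟨K', hK', ψ', z', Subsingleton.elim (α := PrimeSpectrum
          (ofPt (X.left.fromSpecResidueField ((smap φ ≫ x).left z₀)))) _ p, h1⟩
    show x.left P ∈ chartSet hrd e q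
    rw [← hP]
    exact h2

include he in
theorem range_subset_chartSet_iff {A : CommAlgCat.{u} R} (x : SR A ⟶ X) :
    Set.range x.left ⊆ chartSet hrd e q ↔ Has hrd f g q (e A x).1 := by
  constructor
  · intro h
    exact has_of_pointwise (e A x).2 fun P => (mem_chartSet_iff he x P).1 (h ⟨P, rfl⟩)
  · rintro h _ ⟨P, rfl⟩
    obtain ⟨K, hK, z₀, φ, ψ, hz, -⟩ := exists_residue_fac x P
    exact (mem_chartSet_iff he x P).2 ⟨K, hK, φ, z₀, hz, h.map φ.hom⟩

include he in
theorem isOpen_chartSet : IsOpen (chartSet hrd e q) := by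
  let N : Fin (n + 1) → Fam (Fin d → R) (d - r) X := fun i =>
    { val := fun A x => (e A x).1 i
      nat := fun A B φ x => congrFun (e_smap he φ x) i }
  rw [isOpen_iff_forall_mem_open]
  intro x hx
  have hxN : ∀ i, x ∈ locus (q.S i) (N i) := fun i => Has.inChart (e _ _).2 hx i
  obtain ⟨W, hW, hxW, hWle⟩ := exists_isAffineOpen_mem_and_subset (x := x)
    (U := ⟨⋂ i, locus (q.S i) (N i), isOpen_iInter_of_finite fun i => isOpen_locus _ _⟩)
    (Set.mem_iInter.2 hxN)
  let A := ofPt (X := X) hW.fromSpec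
  let g₀ : SR A ⟶ X := gOf hW.fromSpec
  have hC : ∀ i, H26Gr.InChart R (q.S i) ((e A g₀).1 i) := fun i => (inChart_iff R _ _).2 fun P =>
    (mem_locus_iff (q.S i) (N i) g₀ P).1 (Set.mem_iInter.1 (hWle (by
      show g₀.left P ∈ W
      have : g₀.left P ∈ Set.range hW.fromSpec := ⟨P, rfl⟩
      rwa [hW.range_fromSpec] at this)) i)
  obtain ⟨z, hz⟩ := exists_coord hC
  have key : ∀ P : PrimeSpectrum A,
      g₀.left P ∈ chartSet hrd e q ↔ Dq hrd f g q z ∉ P.asIdeal := fun P => by
    rw [mem_chartSet_iff he]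
    constructor
    · rintro ⟨K, hK, φ, z₀, rfl, z', hu, hm⟩
      have := Has.unique (map_mem_LGPoints φ.hom (e A g₀).2) hu hm (mem_map_of_mem φ.hom hz)
      rw [← this, ← map_Dq] at hu
      exact fun hc => z₀.isPrime.ne_top (Ideal.eq_top_of_isUnit_mem _ hc hu)
    · intro hP
      obtain ⟨K, hK, z₀, φ, ψ, hz₀, -⟩ := exists_residue_fac g₀ P
      refine ⟨K, hK, φ, z₀, hz₀, φ.hom ∘ z, ?_, mem_map_of_mem φ.hom hz⟩
      rw [← map_Dq]
      by_contra hu
      obtain ⟨m, hm, hmem⟩ := exists_max_ideal_of_mem_nonunits hu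
      rw [← hz₀] at hP
      refine hP (show φ.hom (Dq hrd f g q z) ∈ z₀.asIdeal from ?_)
      rwa [Subsingleton.elim z₀ ⟨m, hm.isPrime⟩]
  refine ⟨hW.fromSpec '' {P | Dq hrd f g q z ∉ P.asIdeal}, ?_, ?_, ?_⟩
  · rintro _ ⟨P, hP, rfl⟩
    exact (key P).2 hP
  · exact hW.fromSpec.isOpenEmbedding.isOpenMap _
      (PrimeSpectrum.basicOpen (R := A) (Dq hrd f g q z)).2
  · obtain ⟨P, hP⟩ := (hW.range_fromSpec.symm ▸ hxW : x ∈ Set.range hW.fromSpec)
    exact ⟨P, (key P).1 (show hW.fromSpec P ∈ _ from hP.symm ▸ hx), hP⟩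

/-- The chart locus as an open subset. -/
def chartOpens : X.left.Opens := ⟨chartSet hrd e q, isOpen_chartSet he⟩

variable (hrd q f g) in
/-- The universal coordinates of a chart. -/
def univD : MvPolynomial (Fin r × Fin (d - r)) R := Dq hrd f g q MvPolynomial.X

variable (hrd q f g) in
/-- The coordinate algebra of a chart locus. -/
abbrev chartRing : CommAlgCat.{u} R := CommAlgCat.of R (Localization.Away (univD hrd f g q))

variable {s : R} (hI : ∀ i, (f i).comp (g i) = s • LinearMap.id ∧ (g i).comp (f i) = s • LinearMap.id)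

include he hI in
/-- Each chart locus is a principal open subset of an affine space over the base. -/
theorem exists_chart : ∃ x₀ : SR (chartRing hrd f g q) ⟶ X,
    IsOpenImmersion x₀.left ∧ Set.range x₀.left = chartSet hrd e q := by
  let B := chartRing hrd f g q
  let ι : MvPolynomial (Fin r × Fin (d - r)) R →ₐ[R] B :=
    IsScalarTower.toAlgHom R _ (Localization.Away (univD hrd f g q))
  let zU : Fin r × Fin (d - r) → B := fun x => ι (MvPolynomial.X x)
  have hU : IsUnit (Dq hrd f g q zU) := by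
    rw [show zU = ι ∘ MvPolynomial.X from rfl, ← map_Dq]
    exact IsLocalization.Away.algebraMap_isUnit (S := Localization.Away (univD hrd f g q)) (univD hrd f g q)
  let x₀ : SR B ⟶ X := (e B).symm
    ⟨fun i => framePt (omega R q zU) (isUnit_det hU) i, framePt_mem_LGPoints hI _ _⟩
  have hu : ∀ l, omega R q zU l ∈ ((e B x₀).1 (q.c l)).toSubmodule := fun l => by
    simp only [x₀, Equiv.apply_symm_apply]
    refine ⟨Pi.single l 1, ?_⟩
    rw [comb_single, tr_self, LinearMap.baseChange_id, LinearMap.id_apply]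
  have hsm : ∀ (A : CommAlgCat.{u} R) (φ : B ⟶ A) (l : Fin r),
      omega R q (φ.hom ∘ zU) l ∈ ((e A (smap φ ≫ x₀)).1 (q.c l)).toSubmodule := fun A φ l => by
    rw [e_smap he]
    exact mem_map_of_mem φ.hom hu l
  refine ⟨x₀, isOpenImmersion_of_points x₀ (chartOpens (hrd := hrd) (q := q) he) (fun A x => ?_)
    fun A φ ψ h => ?_⟩
  · show _ ↔ Set.range x.left ⊆ chartSet hrd e q
    rw [range_subset_chartSet_iff he]
    constructor
    · rintro ⟨φ, rfl⟩
      exact ⟨φ.hom ∘ zU, map_Dq hrd f g q φ.hom zU ▸ hU.map φ.hom, hsm A φ⟩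
    · rintro ⟨z, hz, hm⟩
      obtain ⟨ψ, hψ⟩ := exists_lift_away (P := Localization.Away (univD hrd f g q))
        (MvPolynomial.aeval z) (univD hrd f g q) (by
          have hX : (MvPolynomial.aeval z : _ →ₐ[R] A) ∘ MvPolynomial.X = z :=
            funext fun x => MvPolynomial.aeval_X z x
          rw [univD, map_Dq, hX]
          exact hz)
      let φ : B ⟶ A := CommAlgCat.ofHom ψ
      refine ⟨φ, (e A).injective (Subtype.ext ?_)⟩
      have hzφ : φ.hom ∘ zU = z := funext fun x => by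
        show ψ (ι (MvPolynomial.X x)) = z x
        rw [← AlgHom.comp_apply, hψ, MvPolynomial.aeval_X]
      rw [Has.eq_framePt (e A x).2 hz hm]
      exact Has.eq_framePt (e A _).2 hz (hzφ ▸ hsm A φ)
  · have hz : φ.hom ∘ zU = ψ.hom ∘ zU :=
      Has.unique (e A (smap φ ≫ x₀)).2 (map_Dq hrd f g q ψ.hom zU ▸ hU.map ψ.hom)
        (h ▸ hsm A ψ) (hsm A φ)
    refine CommAlgCat.hom_ext (IsLocalization.algHom_ext (Submonoid.powers (univD hrd f g q))
      (MvPolynomial.algHom_ext fun x => congrFun hz x))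

end

end Groth.Agent.H7LGr
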