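import Groth.Agent.H7LGr.Lin
import Mathlib.LinearAlgebra.Dual.Lemmas

/-!
# A first-order direction making a linked tuple more exact
-/

set_option autoImplicit false

universe u v

namespace Groth.Agent.H7LGr

variable {K : Type u} [Field K] {E : Type v} [AddCommGroup E] [Module K E] [FiniteDimensional K E]
  {n r : ℕ} {f g : Fin n → E →ₗ[K] E}

/-- One more backward step. -/
theorem tr_add_one_eq_comp (m : Fin n) {i : ℕ} (h : i ≤ m) :
    tr f g i (m + 1) = tr f g i m ∘ₗ g m := by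
  obtain ⟨t, ht⟩ := Nat.le.dest h
  induction t generalizing i with
  | zero =>
    obtain rfl : i = m := by simpa using ht
    rw [tr_self, tr_of_lt f g m (Nat.lt_succ_self _), tr_self]
    rfl
  | succ t ih =>
    let i' : Fin n := ⟨i, lt_of_le_of_lt h m.2⟩
    rw [show i = (i' : ℕ) from rfl, tr_of_lt f g i' (by simp [i']; omega),
      tr_of_lt f g i' (j := m) (by simp [i']; omega), LinearMap.comp_assoc,
      ih (by simp [i']; omega) (by simp [i']; omega)]

/-- Backward transports are injective on backward images. -/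
theorem tr_eq_zero_of_range
    (hIII : ∀ i j : Fin n, i.val + 1 = j.val → LinearMap.range (g j) ⊓ LinearMap.ker (g i) = ⊥)
    (i : Fin n) {j : ℕ} (hj : j ≤ i) {x : E} (hx : x ∈ LinearMap.range (g i))
    (h0 : tr f g j i x = 0) : x = 0 := by
  suffices H : ∀ (t : ℕ) (j : Fin n), (j : ℕ) + t = i →
      tr f g j i x ∈ LinearMap.range (g j) ∧ (tr f g j i x = 0 → x = 0) by
    exact (H (i - j) ⟨j, lt_of_le_of_lt hj i.2⟩ (by simp; omega)).2 h0
  intro t
  induction t with
  | zero =>
    intro j hj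
    obtain rfl : j = i := Fin.ext (by simpa using hj)
    simpa [tr_self] using hx
  | succ t ih =>
    intro j hj
    rw [tr_of_lt f g j (by omega), LinearMap.comp_apply]
    refine ⟨⟨_, rfl⟩, fun h => ?_⟩
    let j' : Fin n := ⟨(j : ℕ) + 1, by omega⟩
    obtain ⟨hr, hz⟩ := ih j' (by simp [j']; omega)
    refine hz ?_
    have : tr f g j' i x ∈ (⊥ : Submodule K E) := by
      rw [← hIII j j' rfl]
      exact ⟨hr, h⟩
    simpa using this

/-- A tuple failing to be exact at `i` on the forward side fails on the backward side. -/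
theorem finrank_lt_of_not_le (h0 : ∀ i x, f i (g i x) = 0 ∧ g i (f i x) = 0)
    (V : Fin (n + 1) → Submodule K E) (hV : ∀ i, Module.finrank K (V i) = r)
    (hf : ∀ i : Fin n, ∀ x ∈ V i.castSucc, f i x ∈ V i.succ) (i : Fin n)
    (h : ¬ LinearMap.ker (g i) ⊓ V i.succ ≤ (V i.castSucc).map (f i)) :
    Module.finrank K ((V i.castSucc).map (f i)) + Module.finrank K ((V i.succ).map (g i)) < r := by
  have hle : (V i.castSucc).map (f i) ≤ LinearMap.ker (g i) ⊓ V i.succ := by
    rintro _ ⟨x, hx, rfl⟩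
    exact ⟨(h0 i x).2, hf i x hx⟩
  have h1 := Submodule.finrank_lt_finrank_of_lt (lt_of_le_not_ge hle h)
  have e := LinearMap.finrank_range_add_finrank_ker ((g i).domRestrict (V i.succ))
  rw [LinearMap.range_domRestrict, LinearMap.ker_domRestrict, hV] at e
  have e2 : Module.finrank K (LinearMap.ker (g i) ⊓ V i.succ : Submodule K E) =
      Module.finrank K ((LinearMap.ker (g i)).comap (V i.succ).subtype) := by
    rw [inf_comm, ← Submodule.map_comap_subtype]
    exact ((V i.succ).equivSubtypeMap _).symm.finrank_eq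
  omega

/-- A tuple which is not exact fails the condition on the backward kernels. -/
theorem exists_not_le_of_not_exact (h0 : ∀ i x, f i (g i x) = 0 ∧ g i (f i x) = 0)
    (V : Fin (n + 1) → Submodule K E) (hV : ∀ i, Module.finrank K (V i) = r)
    (hg : ∀ i : Fin n, ∀ x ∈ V i.succ, g i x ∈ V i.castSucc)
    (h : ¬ ∀ i : Fin n, LinearMap.ker (g i) ⊓ V i.succ ≤ (V i.castSucc).map (f i) ∧
      LinearMap.ker (f i) ⊓ V i.castSucc ≤ (V i.succ).map (g i)) :
    ∃ i : Fin n, ¬ LinearMap.ker (g i) ⊓ V i.succ ≤ (V i.castSucc).map (f i) := by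
  by_contra hc
  push Not at hc
  refine h fun i => ⟨hc i, ?_⟩
  have hle : (V i.succ).map (g i) ≤ LinearMap.ker (f i) ⊓ V i.castSucc := by
    rintro _ ⟨x, hx, rfl⟩
    exact ⟨(h0 i x).1, hg i x hx⟩
  refine ((Submodule.eq_of_le_of_finrank_le hle ?_).symm).le
  have e := LinearMap.finrank_range_add_finrank_ker ((f i).domRestrict (V i.castSucc))
  rw [LinearMap.range_domRestrict, LinearMap.ker_domRestrict, hV] at e
  have e' := LinearMap.finrank_range_add_finrank_ker ((g i).domRestrict (V i.succ))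
  rw [LinearMap.range_domRestrict, LinearMap.ker_domRestrict, hV] at e'
  have e2 : Module.finrank K (LinearMap.ker (f i) ⊓ V i.castSucc : Submodule K E) =
      Module.finrank K ((LinearMap.ker (f i)).comap (V i.castSucc).subtype) := by
    rw [inf_comm, ← Submodule.map_comap_subtype]
    exact ((V i.castSucc).equivSubtypeMap _).symm.finrank_eq
  have e3 : Module.finrank K (LinearMap.ker (g i) ⊓ V i.succ : Submodule K E) =
      Module.finrank K ((LinearMap.ker (g i)).comap (V i.succ).subtype) := by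
    rw [inf_comm, ← Submodule.map_comap_subtype]
    exact ((V i.succ).equivSubtypeMap _).symm.finrank_eq
  have := Submodule.finrank_mono (hc i)
  omega

/-- A direction along which a non-exact tuple becomes more exact. -/
theorem exists_direction (h0 : ∀ i x, f i (g i x) = 0 ∧ g i (f i x) = 0)
    (hker : ∀ i, LinearMap.ker (g i) ≤ LinearMap.range (f i) ∧ LinearMap.ker (f i) ≤ LinearMap.range (g i))
    (hIII : ∀ i j : Fin n, i.val + 1 = j.val → LinearMap.range (g j) ⊓ LinearMap.ker (g i) = ⊥)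
    (V : Fin (n + 1) → Submodule K E) (hV : ∀ i, Module.finrank K (V i) = r)
    (hf : ∀ i : Fin n, ∀ x ∈ V i.castSucc, f i x ∈ V i.succ) (i : Fin n)
    (h : ¬ LinearMap.ker (g i) ⊓ V i.succ ≤ (V i.castSucc).map (f i)) :
    ∃ ψ : Fin (n + 1) → E →ₗ[K] E,
      (∀ m : Fin n, ∀ v ∈ V m.castSucc, f m (ψ m.castSucc v) - ψ m.succ (f m v) ∈ V m.succ ∧
        ψ m.succ (f m (ψ m.castSucc v) - ψ m.succ (f m v)) = 0) ∧
      (∀ m : Fin n, ∀ v ∈ V m.succ, g m (ψ m.succ v) = ψ m.castSucc (g m v)) ∧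
      (∀ m : Fin n, m ≠ i → ∀ v ∈ V m.castSucc, f m (ψ m.castSucc v) = 0) ∧
      ∃ u ∈ V i.castSucc, f i u = 0 ∧ f i (ψ i.castSucc u) ∉ (V i.castSucc).map (f i) ∧
        ∀ v ∈ V i.castSucc, ∃ t : K, f i (ψ i.castSucc v) = t • f i (ψ i.castSucc u) := by
  classical
  obtain ⟨y, ⟨hy0, hyV⟩, hyn⟩ := SetLike.not_le_iff_exists.1 h
  obtain ⟨x, rfl⟩ := (hker i).1 hy0
  obtain ⟨u, ⟨hu0, huV⟩, hun⟩ : ∃ u ∈ LinearMap.ker (f i) ⊓ V i.castSucc, u ∉ (V i.succ).map (g i) := by
    refine SetLike.not_le_iff_exists.1 fun hle => ?_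
    have h1 := Submodule.finrank_mono hle
    have h2 := finrank_lt_of_not_le h0 V hV hf i h
    have e := LinearMap.finrank_range_add_finrank_ker ((f i).domRestrict (V i.castSucc))
    rw [LinearMap.range_domRestrict, LinearMap.ker_domRestrict, hV] at e
    have e2 : Module.finrank K (LinearMap.ker (f i) ⊓ V i.castSucc : Submodule K E) =
        Module.finrank K ((LinearMap.ker (f i)).comap (V i.castSucc).subtype) := by
      rw [inf_comm, ← Submodule.map_comap_subtype]
      exact ((V i.castSucc).equivSubtypeMap _).symm.finrank_eq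
    omega
  have hug : u ∈ LinearMap.range (g i) := (hker i).2 hu0
  let T := tr f g 0 i
  have hTu : T u ∉ ((V i.succ).map (g i)).map T := by
    rintro ⟨_, ⟨w, hw, rfl⟩, he⟩
    refine hun ?_
    have hd : u - g i w = 0 := tr_eq_zero_of_range (f := f) hIII i (Nat.zero_le _) (sub_mem hug ⟨w, rfl⟩)
      (by rw [map_sub]; exact sub_eq_zero.2 he.symm)
    exact ⟨w, hw, (sub_eq_zero.1 hd).symm⟩
  obtain ⟨φ, hφu, hφ⟩ := Submodule.exists_dual_map_eq_bot_of_notMem hTu inferInstance
  let φ₀ : E →ₗ[K] K := (φ (T u))⁻¹ • φ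
  have hφ₀u : φ₀ (T u) = 1 := inv_mul_cancel₀ hφu
  have hφ₀ : ∀ w ∈ V i.succ, φ₀ (T (g i w)) = 0 := fun w hw => by
    have : φ (T (g i w)) ∈ Submodule.map φ (((V i.succ).map (g i)).map T) :=
      ⟨_, ⟨_, ⟨w, hw, rfl⟩, rfl⟩, rfl⟩
    rw [hφ, Submodule.mem_bot] at this
    show (φ (T u))⁻¹ * φ (T (g i w)) = 0
    rw [this, mul_zero]
  let ψ : Fin (n + 1) → E →ₗ[K] E := fun j =>
    if (j : ℕ) ≤ i then (φ₀ ∘ₗ tr f g 0 j).smulRight (tr f g j i x) else 0
  have hψ : ∀ (j : Fin (n + 1)), (j : ℕ) ≤ i → ∀ v, ψ j v = φ₀ (tr f g 0 j v) • tr f g j i x := fun j hj v => by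
    simp [ψ, hj]
  have hψ0 : ∀ (j : Fin (n + 1)), (i : ℕ) < j → ψ j = 0 := fun j hj => if_neg (Nat.not_le.2 hj)
  have hfi : ∀ v, f i (ψ i.castSucc v) = φ₀ (T v) • f i x := fun v => by
    rw [hψ _ (by simp), map_smul]
    simp [T, tr_self]
  have hlt : ∀ m : Fin n, (m : ℕ) < i → ∀ v, f m (ψ m.castSucc v) = 0 := fun m hm v => by
    rw [hψ _ (by simp; omega), map_smul]
    simp only [Fin.val_castSucc, tr_of_lt f g m hm, LinearMap.comp_apply, (h0 m _).1, smul_zero]
  refine ⟨ψ, fun m v hv => ?_, fun m v hv => ?_, fun m hm v hv => ?_,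
    u, huV, hu0, ?_, fun v hv => ⟨φ₀ (T v), ?_⟩⟩
  · rcases Nat.lt_trichotomy (m : ℕ) i with hm | hm | hm
    · have e : ψ m.succ (f m v) = 0 := by
        rw [hψ _ (by simp; omega)]
        simp only [Fin.val_succ, tr_add_one_eq_comp m (Nat.zero_le _), LinearMap.comp_apply, (h0 m v).2,
          map_zero, zero_smul]
      simp [hlt m hm, e]
    · obtain rfl : m = i := Fin.ext hm
      rw [hψ0 m.succ (by simp), LinearMap.zero_apply, LinearMap.zero_apply, sub_zero, hfi]
      exact ⟨Submodule.smul_mem _ _ hyV, rfl⟩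
    · simp [hψ0 m.castSucc (by simpa using hm), hψ0 m.succ (by simp; omega)]
  · rcases Nat.lt_trichotomy (m : ℕ) i with hm | hm | hm
    · rw [hψ _ (by simp; omega), hψ _ (by simp; omega), map_smul]
      simp only [Fin.val_succ, Fin.val_castSucc, tr_add_one_eq_comp m (Nat.zero_le _),
        tr_of_lt f g m hm, LinearMap.comp_apply]
    · obtain rfl : m = i := Fin.ext hm
      rw [hψ0 m.succ (by simp), LinearMap.zero_apply, map_zero, hψ _ (by simp)]
      simp only [Fin.val_castSucc]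
      rw [hφ₀ v hv, zero_smul]
    · simp [hψ0 m.castSucc (by simpa using hm), hψ0 m.succ (by simp; omega)]
  · rcases Nat.lt_or_ge (i : ℕ) m with hlt' | hge
    · simp [hψ0 m.castSucc (by simpa using hlt')]
    · exact hlt m (lt_of_le_of_ne hge (fun e => hm (Fin.ext e))) v
  · rw [hfi, hφ₀u, one_smul]
    exact hyn
  · rw [hfi, hfi, hφ₀u, one_smul]

end Groth.Agent.H7LGr
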