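import Groth.Agent.H7LGr.Frame

/-!
# Exact linked tuples over a field have frames
-/

set_option autoImplicit false
set_option backward.isDefEq.respectTransparency false
set_option backward.isDefEq.respectTransparency.types false

universe u

open TensorProduct

namespace Groth.Agent.H7LGr

variable {k : Type u} [Field k] {d r n : ℕ} {f g : Fin n → (Fin d → k) →ₗ[k] (Fin d → k)} {s : k}

theorem finrank_grassmannian (hrd : r ≤ d) (V : Module.Grassmannian k (k ⊗[k] (Fin d → k)) (d - r)) :
    Module.finrank k V.toSubmodule = r := by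
  have h1 := V.rankAtStalk_eq ⟨⊥, Ideal.isPrime_bot⟩
  rw [Module.rankAtStalk_eq_finrank_of_free] at h1
  have h1' : Module.finrank k ((k ⊗[k] (Fin d → k)) ⧸ V.toSubmodule) = d - r := by simpa using h1
  have h2 := Submodule.finrank_quotient_add_finrank V.toSubmodule
  rw [h1', finrank_free (R := k) (d := d) inferInstance] at h2
  omega

/-- An exact rational tuple has a frame. -/
theorem exists_frame_of_isExact (hrd : r ≤ d)
    (hI : ∀ i, (f i).comp (g i) = s • LinearMap.id ∧ (g i).comp (f i) = s • LinearMap.id)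
    (hIII : ∀ i j : Fin n, i.val + 1 = j.val → LinearMap.range (f i) ⊓ LinearMap.ker (f j) = ⊥)
    (V : Fin (n + 1) → Module.Grassmannian k (k ⊗[k] (Fin d → k)) (d - r))
    (hV : V ∈ W4c1limliniiii.LGPoints k d r n f g k) (hx : W4c1limliniiii.IsExact k d r n f g k V) :
    ∃ (c : Fin r → Fin (n + 1)) (L : Fin (n + 1) → (Fin d → k) →ₗ[k] (Fin r → k))
      (w : Fin r → k ⊗[k] (Fin d → k)), (∀ l, w l ∈ (V (c l)).toSubmodule) ∧
        ∀ i, IsUnit (fmat f g c L w i).det := by
  let el := TensorProduct.lid k (Fin d → k)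
  have hel : ∀ (F : (Fin d → k) →ₗ[k] (Fin d → k)) (x : k ⊗[k] (Fin d → k)),
      el (F.baseChange k x) = F (el x) := fun F x => by
    induction x using TensorProduct.induction_on with
    | zero => simp
    | tmul a m => simp [el]
    | add x y hx hy => simp [map_add, hx, hy]
  have hIk : ∀ i, ((f i).baseChange k).comp ((g i).baseChange k) = s • LinearMap.id ∧
      ((g i).baseChange k).comp ((f i).baseChange k) = s • LinearMap.id := fun i => by
    rw [← LinearMap.baseChange_comp, ← LinearMap.baseChange_comp, (hI i).1, (hI i).2,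
      LinearMap.baseChange_smul, LinearMap.baseChange_id]
    exact ⟨rfl, rfl⟩
  have hIIIk : ∀ i j : Fin n, i.val + 1 = j.val →
      LinearMap.range ((f i).baseChange k) ⊓ LinearMap.ker ((f j).baseChange k) = ⊥ := fun i j h => by
    rw [eq_bot_iff]
    rintro x ⟨⟨y, rfl⟩, hy⟩
    have hy' : f j (f i (el y)) = 0 := by
      rw [← hel, ← hel, show (f j).baseChange k ((f i).baseChange k y) = 0 from hy, map_zero]
    have : f i (el y) ∈ (⊥ : Submodule k (Fin d → k)) := hIII i j h ▸ ⟨⟨_, rfl⟩, hy'⟩
    exact el.injective (by rw [hel, map_zero]; exact this)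
  obtain ⟨c, w, hw, hli⟩ := exists_frame (fun i => (f i).baseChange k) (fun i => (g i).baseChange k)
    (r := r) hIk hIIIk (fun i => (V i).toSubmodule) (fun i => finrank_grassmannian hrd (V i))
    (fun i x hxi => (hV i).1 ⟨x, hxi, rfl⟩) (fun i x hxi => (hV i).2 ⟨x, hxi, rfl⟩) fun i => (hx i).2
  have hinj : ∀ i, LinearMap.ker (comb f g c w i) = ⊥ := fun i => by
    have h : LinearIndependent k fun l => (tr f g i (c l)).baseChange k (w l) := by
      simpa only [← baseChange_tr] using hli i
    refine LinearMap.ker_eq_bot'.2 fun u hu => funext fun l => ?_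
    exact Fintype.linearIndependent_iff.1 h u
      (by simpa [comb, Fintype.linearCombination_apply] using hu) l
  choose P hP using fun i => LinearMap.exists_leftInverse_of_injective _ (hinj i)
  refine ⟨c, fun i => P i ∘ₗ el.symm.toLinearMap, w, hw, fun i => ?_⟩
  have hread : ∀ (Q : k ⊗[k] (Fin d → k) →ₗ[k] (Fin r → k)) (x : k ⊗[k] (Fin d → k)),
      readA (Q ∘ₗ el.symm.toLinearMap) x = Q x := fun Q x => by
    induction x using TensorProduct.induction_on with
    | zero => simp
    | tmul a m =>
      funext b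
      rw [show a ⊗ₜ[k] m = a • ((1 : k) ⊗ₜ[k] m) by rw [smul_tmul', smul_eq_mul, mul_one], map_smul, map_smul]
      simp [readA, el]
    | add x y hx hy => rw [map_add, map_add, hx, hy]
  have h1 : fmat f g c (fun i => P i ∘ₗ el.symm.toLinearMap) w i = 1 := by
    refine Matrix.toLin'.injective ?_
    rw [← readA_comb, Matrix.toLin'_one, ← hP i]
    exact LinearMap.ext fun v => hread (P i) _
  rw [h1, Matrix.det_one]
  exact isUnit_one

end Groth.Agent.H7LGr
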