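import Groth.Agent.H7LGr.Chart

/-!
# Exactness and charts over a field
-/

set_option autoImplicit false
set_option backward.isDefEq.respectTransparency false
set_option backward.isDefEq.respectTransparency.types false

universe u

open TensorProduct

namespace Groth.Agent.H7LGr

open H26Gr (bb secMap InChart exists_inChart_of_field)

variable {R : Type u} [CommRing R] {d r n : ℕ} {f g : Fin n → (Fin d → R) →ₗ[R] (Fin d → R)}
  {s : R} {K : Type u} [Field K] [Algebra R K]

/-- The subspaces of a rational tuple have rank `r`. -/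
theorem finrank_point (hrd : r ≤ d) (V : Module.Grassmannian K (K ⊗[R] (Fin d → R)) (d - r)) :
    Module.finrank K V.toSubmodule = r := by
  have h1 := V.rankAtStalk_eq ⟨⊥, Ideal.isPrime_bot⟩
  rw [Module.rankAtStalk_eq_finrank_of_free] at h1
  have h1' : Module.finrank K ((K ⊗[R] (Fin d → R)) ⧸ V.toSubmodule) = d - r := by simpa using h1
  have h2 := Submodule.finrank_quotient_add_finrank V.toSubmodule
  rw [h1', finrank_free (R := R) (d := d) inferInstance] at h2
  omega

theorem baseChange_link (hI : ∀ i, (f i).comp (g i) = s • LinearMap.id ∧ (g i).comp (f i) = s • LinearMap.id)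
    (i : Fin n) :
    ((f i).baseChange K).comp ((g i).baseChange K) = algebraMap R K s • LinearMap.id ∧
      ((g i).baseChange K).comp ((f i).baseChange K) = algebraMap R K s • LinearMap.id := by
  rw [← LinearMap.baseChange_comp, ← LinearMap.baseChange_comp, (hI i).1, (hI i).2,
    LinearMap.baseChange_smul, LinearMap.baseChange_id, algebraMap_smul]
  exact ⟨rfl, rfl⟩

/-- A member in a chart meets the complementary coordinates trivially. -/
theorem inf_span_eq_bot (hrd : r ≤ d) {S : Fin (d - r) ↪ Fin d}
    (V : Module.Grassmannian K (K ⊗[R] (Fin d → R)) (d - r)) (h : InChart R S V) :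
    V.toSubmodule ⊓ Submodule.span K (Set.range fun j => bb R K (S j)) = ⊥ := by
  let U := Submodule.span K (Set.range fun j => bb R K (S j))
  have hU : Module.finrank K U ≤ d - r :=
    (finrank_range_le_card (R := K) fun j => bb R K (S j)).trans_eq (Fintype.card_fin _)
  have e := Submodule.finrank_sup_add_finrank_inf_eq V.toSubmodule U
  rw [show V.toSubmodule ⊔ U = ⊤ from h, finrank_top, finrank_free (R := R) (d := d) inferInstance,
    finrank_point hrd V] at e
  exact Submodule.finrank_eq_zero.1 (by show Module.finrank K (V.toSubmodule ⊓ U : Submodule K _) = 0; omega)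

/-- An exact rational tuple lies in some chart. -/
theorem exists_has_of_isExact (hrd : r ≤ d)
    (hI : ∀ i, (f i).comp (g i) = s • LinearMap.id ∧ (g i).comp (f i) = s • LinearMap.id)
    (hIII : ∀ i j : Fin n, i.val + 1 = j.val →
      LinearMap.range ((f i).baseChange K) ⊓ LinearMap.ker ((f j).baseChange K) = ⊥)
    (V : Fin (n + 1) → Module.Grassmannian K (K ⊗[R] (Fin d → R)) (d - r))
    (hV : V ∈ W4c1limliniiii.LGPoints R d r n f g K) (hx : W4c1limliniiii.IsExact R d r n f g K V) :
    ∃ q : Ch d r n, Has hrd f g q V := by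
  choose S hS using fun i => exists_inChart_of_field R K (V i)
  let T : Fin (n + 1) → Set (K ⊗[R] (Fin d → R)) := fun i =>
    {v | v ∈ (V i).toSubmodule ∧ ∃ (a : Fin d) (z : Fin (d - r) → K), v = bb R K a - secMap R (S i) z}
  have hT : ∀ i, Submodule.span K (T i) = (V i).toSubmodule := fun i => by
    refine le_antisymm (Submodule.span_le.2 fun v hv => hv.1) fun v hv => ?_
    have hstd : ∀ a, ∃ z : Fin (d - r) → K, bb R K a - secMap R (S i) z ∈ (V i).toSubmodule := fun a => by
      obtain ⟨x, hx, y, hy, hxy⟩ := Submodule.mem_sup.1 ((hS i).symm ▸ Submodule.mem_top (x := bb R K a))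
      obtain ⟨z, hz⟩ := (Submodule.mem_span_range_iff_exists_fun K).1 hy
      refine ⟨z, ?_⟩
      rw [show secMap R (S i) z = y from hz ▸ Fintype.linearCombination_apply K _ z, ← hxy, add_sub_cancel_right]
      exact hx
    choose z hz using hstd
    let v' := ∑ a, (bb R K).repr v a • (bb R K a - secMap R (S i) (z a))
    have hv' : v' ∈ Submodule.span K (T i) := Submodule.sum_mem _ fun a _ =>
      Submodule.smul_mem _ _ (Submodule.subset_span ⟨hz a, a, z a, rfl⟩)
    have h0 : v - v' ∈ (V i).toSubmodule ⊓ Submodule.span K (Set.range fun j => bb R K (S i j)) := by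
      refine ⟨sub_mem hv (Submodule.sum_mem _ fun a _ => Submodule.smul_mem _ _ (hz a)), ?_⟩
      have : v - v' = secMap R (S i) (∑ a, (bb R K).repr v a • z a) := by
        simp only [v', map_sum, map_smul, smul_sub, Finset.sum_sub_distrib, (bb R K).sum_repr v]
        abel
      rw [this, secMap, Fintype.linearCombination_apply]
      exact Submodule.sum_mem _ fun j _ => Submodule.smul_mem _ _ (Submodule.subset_span ⟨j, rfl⟩)
    rw [inf_span_eq_bot hrd (V i) (hS i), Submodule.mem_bot, sub_eq_zero] at h0
    rwa [h0]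
  obtain ⟨c, w, hw, hli⟩ := exists_frame_of_span (fun i => (f i).baseChange K) (fun i => (g i).baseChange K)
    (r := r) (baseChange_link hI) hIII (fun i => (V i).toSubmodule) (fun i => finrank_point hrd (V i))
    (fun i x hxi => (hV i).1 ⟨x, hxi, rfl⟩) (fun i x hxi => (hV i).2 ⟨x, hxi, rfl⟩) (fun i => (hx i).2) T hT
  choose hwV p z hwz using hw
  let q : Ch d r n := ⟨c, p, S⟩
  let z' : Fin r × Fin (d - r) → K := fun lj => z lj.1 lj.2
  have hω : omega R q z' = w := funext fun l => (hwz l).symm
  refine ⟨q, z', ?_, fun l => by rw [hω]; exact hwV l⟩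
  rw [Dq, hω, IsUnit.prod_univ_iff]
  intro i
  rw [← Matrix.isUnit_iff_isUnit_det, ← Matrix.mulVec_injective_iff_isUnit]
  refine (injective_iff_map_eq_zero (Matrix.toLin' (fmat f g c (proj R hrd q) w i))).2 fun u hu => ?_
  rw [← readA_comb, LinearMap.comp_apply] at hu
  have hmem : comb f g c w i u ∈ (V i).toSubmodule := by
    have h1 : comb f g c w i u ∈ LinearMap.range (comb f g c w i) := ⟨u, rfl⟩
    rw [range_comb] at h1
    refine Submodule.span_le.2 ?_ h1
    rintro _ ⟨l, rfl⟩
    show (tr f g i (c l)).baseChange K (w l) ∈ _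
    rw [← baseChange_tr]
    exact tr_mem _ _ (fun j => (V j).toSubmodule) (fun j x hxj => (hV j).1 ⟨x, hxj, rfl⟩)
      (fun j x hxj => (hV j).2 ⟨x, hxj, rfl⟩) i (c l) (hwV l)
  have h2 : comb f g c w i u ∈ (V i).toSubmodule ⊓ Submodule.span K (Set.range fun j => bb R K (S i j)) :=
    ⟨hmem, mem_span_of_readA_eq_zero (hrd := hrd) (q := q) i hu⟩
  rw [inf_span_eq_bot hrd (V i) (hS i), Submodule.mem_bot] at h2
  have hli' : LinearIndependent K fun l => (tr f g i (c l)).baseChange K (w l) := by
    simpa only [← baseChange_tr] using hli i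
  funext l
  exact Fintype.linearIndependent_iff.1 hli' u (by simpa [comb, Fintype.linearCombination_apply] using h2) l

variable {c : Fin r → Fin (n + 1)} {L : Fin (n + 1) → (Fin d → R) →ₗ[R] (Fin r → R)}

theorem linearIndependent_frame {ω : Fin r → K ⊗[R] (Fin d → R)}
    (h : ∀ i, IsUnit (fmat f g c L ω i).det) (i : Fin (n + 1)) :
    LinearIndependent K fun l => (tr f g i (c l)).baseChange K (ω l) := by
  rw [Fintype.linearIndependent_iff]
  intro u hu l
  obtain ⟨P, hP⟩ := exists_leftInverse ω i (h i)
  have h0 : comb f g c ω i u = 0 := by simpa [comb, Fintype.linearCombination_apply] using hu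
  have := congr($hP u)
  rw [LinearMap.comp_apply, h0, map_zero] at this
  exact (congrFun this l).symm

theorem ker_eq_bot_of_ne_zero {E : Type u} [AddCommGroup E] [Module K E] {t : K} (ht : t ≠ 0)
    {F G : E →ₗ[K] E} (h : F.comp G = t • LinearMap.id) : LinearMap.ker G = ⊥ :=
  LinearMap.ker_eq_bot'.2 fun x hx => by
    have := congr($h x)
    rw [LinearMap.comp_apply, hx, map_zero] at this
    exact (smul_eq_zero.1 this.symm).resolve_left ht

/-- When the scalar does not vanish every tuple is exact. -/
theorem isExact_of_ne_zero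
    (hI : ∀ i, (f i).comp (g i) = s • LinearMap.id ∧ (g i).comp (f i) = s • LinearMap.id)
    (hs : algebraMap R K s ≠ 0)
    (V : Fin (n + 1) → Module.Grassmannian K (K ⊗[R] (Fin d → R)) (d - r)) :
    W4c1limliniiii.IsExact R d r n f g K V := fun i => by
  rw [ker_eq_bot_of_ne_zero hs (baseChange_link hI i).1, ker_eq_bot_of_ne_zero hs (baseChange_link hI i).2]
  simp

/-- A tuple with a frame is exact. -/
theorem isExact_of_frame
    (hI : ∀ i, (f i).comp (g i) = s • LinearMap.id ∧ (g i).comp (f i) = s • LinearMap.id)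
    (ω : Fin r → K ⊗[R] (Fin d → R)) (h : ∀ i, IsUnit (fmat f g c L ω i).det) :
    W4c1limliniiii.IsExact R d r n f g K fun i => framePt ω h i := by
  by_cases hs : algebraMap R K s = 0
  swap
  · exact isExact_of_ne_zero hI hs _
  let F : Fin n → _ →ₗ[K] _ := fun i => (f i).baseChange K
  let G : Fin n → _ →ₗ[K] _ := fun i => (g i).baseChange K
  have hli : ∀ j : Fin (n + 1), LinearIndependent K fun l => tr F G j (c l) (ω l) := fun j => by
    simpa only [F, G, baseChange_tr] using linearIndependent_frame h j
  have hrange : ∀ j : Fin (n + 1), LinearMap.range (comb f g c ω j) =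
      Submodule.span K (Set.range fun l => tr F G j (c l) (ω l)) := fun j => by
    simp only [range_comb, F, G, baseChange_tr]
  intro i
  show LinearMap.ker (G i) ⊓ LinearMap.range (comb f g c ω i.succ) ≤
      Submodule.map (F i) (LinearMap.range (comb f g c ω i.castSucc)) ∧
    LinearMap.ker (F i) ⊓ LinearMap.range (comb f g c ω i.castSucc) ≤
      Submodule.map (G i) (LinearMap.range (comb f g c ω i.succ))
  simp only [hrange, Fin.val_castSucc, Fin.val_succ]
  have h0 : ∀ x, F i (G i x) = 0 ∧ G i (F i x) = 0 := fun x =>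
    ⟨by simpa [F, G, hs] using congr($((baseChange_link (K := K) hI i).1) x),
      by simpa [F, G, hs] using congr($((baseChange_link (K := K) hI i).2) x)⟩
  constructor
  · rintro v ⟨hv, hvm⟩
    obtain ⟨α, rfl⟩ := (Submodule.mem_span_range_iff_exists_fun K).1 hvm
    rw [SetLike.mem_coe, LinearMap.mem_ker, map_sum] at hv
    have hα : ∀ l, (i : ℕ) < c l → α l = 0 := fun l hl => by
      have := Fintype.linearIndependent_iff.1 (hli i.castSucc)
        (fun l => if (i : ℕ) < c l then α l else 0) (by
          refine Eq.trans (Finset.sum_congr rfl fun l _ => ?_) hv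
          rw [map_smul]
          split_ifs with hl
          · simp only [Fin.val_castSucc, tr_of_lt F G i hl, LinearMap.comp_apply]
          · rw [tr_succ_of_le F G i (Nat.not_lt.1 hl), LinearMap.comp_apply, (h0 _).2, zero_smul, smul_zero]) l
      rwa [if_pos hl] at this
    refine ⟨∑ l, α l • tr F G i (c l) (ω l),
      (Submodule.mem_span_range_iff_exists_fun K).2 ⟨α, rfl⟩, ?_⟩
    rw [map_sum]
    refine Finset.sum_congr rfl fun l _ => ?_
    rw [map_smul]
    rcases Nat.lt_or_ge (i : ℕ) (c l) with hl | hl
    · rw [hα l hl, zero_smul, zero_smul]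
    · rw [tr_succ_of_le F G i hl, LinearMap.comp_apply]
  · rintro v ⟨hv, hvm⟩
    obtain ⟨α, rfl⟩ := (Submodule.mem_span_range_iff_exists_fun K).1 hvm
    rw [SetLike.mem_coe, LinearMap.mem_ker, map_sum] at hv
    have hα : ∀ l, (c l : ℕ) ≤ i → α l = 0 := fun l hl => by
      have := Fintype.linearIndependent_iff.1 (hli i.succ)
        (fun l => if (c l : ℕ) ≤ i then α l else 0) (by
          refine Eq.trans (Finset.sum_congr rfl fun l _ => ?_) hv
          rw [map_smul]
          split_ifs with hl
          · simp only [Fin.val_succ, tr_succ_of_le F G i hl, LinearMap.comp_apply]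
          · rw [tr_of_lt F G i (Nat.not_le.1 hl), LinearMap.comp_apply, (h0 _).1, zero_smul, smul_zero]) l
      rwa [if_pos hl] at this
    refine ⟨∑ l, α l • tr F G (i + 1) (c l) (ω l),
      (Submodule.mem_span_range_iff_exists_fun K).2 ⟨α, rfl⟩, ?_⟩
    rw [map_sum]
    refine Finset.sum_congr rfl fun l _ => ?_
    rw [map_smul]
    rcases Nat.lt_or_ge (i : ℕ) (c l) with hl | hl
    · rw [tr_of_lt F G i hl, LinearMap.comp_apply]
    · rw [hα l hl, zero_smul, zero_smul]

variable {hrd : r ≤ d} {q : Ch d r n}
  {V : Fin (n + 1) → Module.Grassmannian K (K ⊗[R] (Fin d → R)) (d - r)}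

/-- A tuple in a chart is exact. -/
theorem Has.isExact
    (hI : ∀ i, (f i).comp (g i) = s • LinearMap.id ∧ (g i).comp (f i) = s • LinearMap.id)
    (hV : V ∈ W4c1limliniiii.LGPoints R d r n f g K) (h : Has hrd f g q V) :
    W4c1limliniiii.IsExact R d r n f g K V := by
  obtain ⟨z, hz, hm⟩ := h
  rw [Has.eq_framePt hV hz hm]
  exact isExact_of_frame hI _ _

/-- In a chart the forward ranks are read off from the chart datum when the scalar vanishes. -/
theorem Has.finrank_map
    (hI : ∀ i, (f i).comp (g i) = s • LinearMap.id ∧ (g i).comp (f i) = s • LinearMap.id)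
    (hV : V ∈ W4c1limliniiii.LGPoints R d r n f g K) (hs : algebraMap R K s = 0)
    (h : Has hrd f g q V) (i : Fin n) :
    Module.finrank K ((V i.castSucc).toSubmodule.map ((f i).baseChange K)) =
      Fintype.card {l // (q.c l : ℕ) ≤ i} := by
  obtain ⟨z, hz, hm⟩ := h
  rw [Has.eq_framePt hV hz hm]
  let F : Fin n → _ →ₗ[K] _ := fun i => (f i).baseChange K
  let G : Fin n → _ →ₗ[K] _ := fun i => (g i).baseChange K
  let ω := omega R q z
  have hli : LinearIndependent K fun l : {l // (q.c l : ℕ) ≤ i} => tr F G i.succ (q.c l) (ω l) := by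
    have := (linearIndependent_frame (isUnit_det hz) i.succ).comp
      (fun l : {l // (q.c l : ℕ) ≤ i} => l.1) Subtype.val_injective
    simpa only [F, G, baseChange_tr, Function.comp_def] using this
  have hspan : Submodule.map (F i) (LinearMap.range (comb f g q.c ω i.castSucc)) =
      Submodule.span K (Set.range fun l : {l // (q.c l : ℕ) ≤ i} => tr F G i.succ (q.c l) (ω l)) := by
    rw [range_comb, Submodule.map_span]
    refine le_antisymm (Submodule.span_le.2 ?_) (Submodule.span_le.2 ?_)
    · rintro _ ⟨_, ⟨l, rfl⟩, rfl⟩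
      simp only [Fin.val_castSucc, ← baseChange_tr]
      rcases Nat.lt_or_ge (i : ℕ) (q.c l) with hl | hl
      · rw [tr_of_lt F G i hl, LinearMap.comp_apply,
          show F i (G i (tr F G (i + 1) (q.c l) (ω l))) = 0 by
            simpa [F, G, hs] using congr($((baseChange_link (K := K) hI i).1) (tr F G (i + 1) (q.c l) (ω l)))]
        exact zero_mem _
      · exact Submodule.subset_span ⟨⟨l, hl⟩, by
          simp only [Fin.val_succ, tr_succ_of_le F G i hl, LinearMap.comp_apply]
          rfl⟩
    · rintro _ ⟨⟨l, hl⟩, rfl⟩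
      refine Submodule.subset_span ⟨_, ⟨l, rfl⟩, ?_⟩
      simp only [Fin.val_castSucc, Fin.val_succ, ← baseChange_tr]
      rw [tr_succ_of_le F G i hl]
      rfl
  show Module.finrank K (Submodule.map (F i) (LinearMap.range (comb f g q.c ω i.castSucc))) = _
  rw [hspan, finrank_span_eq_card hli]

end Groth.Agent.H7LGr
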