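import Groth.Agent.H7LGr.Field
import Groth.Agent.H7LGr.Deform
import Groth.Agent.H7LGr.Cover
import Mathlib.RingTheory.PowerSeries.Inverse

/-!
# Generisations of points of a linked Grassmannian by exact ones
-/

set_option autoImplicit false
set_option backward.isDefEq.respectTransparency false
set_option backward.isDefEq.respectTransparency.types false

universe u

open CategoryTheory AlgebraicGeometry TensorProduct

namespace Groth.Agent.H7LGr

open H26Gr (SR smap bc bb bc_smul bc_bb bc_bc bc_baseChange map_toSubmodule_eq_span)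

noncomputable section

variable {R : Type u} [CommRing R] {d r n : ℕ}

/-- The transversality conditions over every field. -/
def Transversal (f g : Fin n → (Fin d → R) →ₗ[R] (Fin d → R)) (s : R) : Prop :=
  ∀ (K : Type u) [Field K] [Algebra R K],
    (∀ i j : Fin n, i.val + 1 = j.val →
      LinearMap.range ((f i).baseChange K) ⊓ LinearMap.ker ((f j).baseChange K) = ⊥ ∧
        LinearMap.range ((g j).baseChange K) ⊓ LinearMap.ker ((g i).baseChange K) = ⊥) ∧
    (algebraMap R K s = 0 → ∀ i : Fin n,
      LinearMap.ker ((g i).baseChange K) ≤ LinearMap.range ((f i).baseChange K) ∧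
        LinearMap.ker ((f i).baseChange K) ≤ LinearMap.range ((g i).baseChange K))

variable {K C : Type u} [Field K] [Algebra R K] [CommRing C] [Algebra R C]

/-- Functionals extend along a map of algebras. -/
theorem exists_extend {ι : Type} (P : K ⊗[R] (Fin d → R) →ₗ[K] (ι → K)) (κ : K →ₐ[R] C) :
    ∃ P' : C ⊗[R] (Fin d → R) →ₗ[C] (ι → C), ∀ v a, P' (bc (Fin d → R) κ v) a = κ (P v a) := by
  refine ⟨(bb R C).constr C fun j a => κ (P (bb R K j) a), fun v a => ?_⟩
  rw [← (bb R K).sum_repr v]
  simp only [map_sum, map_smul, bc_smul, bc_bb, Module.Basis.constr_basis, Finset.sum_apply,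
    Pi.smul_apply, smul_eq_mul, map_mul]

theorem exists_retraction (U : Submodule K (K ⊗[R] (Fin d → R))) :
    ∃ π : K ⊗[R] (Fin d → R) →ₗ[K] U, π ∘ₗ U.subtype = LinearMap.id := by
  obtain ⟨C, hC⟩ := U.exists_isCompl
  exact ⟨U.projectionOnto C hC, LinearMap.ext fun u => Submodule.projectionOnto_apply_left hC u⟩

/-- Ranks do not drop under change of rings. -/
theorem finrank_le_of_bc {L : Type u} [Field L] [Algebra R L] (κ : K →ₐ[R] L)
    (U : Submodule K (K ⊗[R] (Fin d → R))) (U' : Submodule L (L ⊗[R] (Fin d → R)))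
    (h : ∀ u ∈ U, bc (Fin d → R) κ u ∈ U') : Module.finrank K U ≤ Module.finrank L U' := by
  haveI : Module.Free K U := Module.Free.of_divisionRing K U
  let b := Module.finBasis K U
  let v : Fin (Module.finrank K U) → L ⊗[R] (Fin d → R) := fun a => bc _ κ (b a : K ⊗[R] (Fin d → R))
  obtain ⟨π, hπ⟩ := exists_retraction U
  obtain ⟨P', hP'⟩ := exists_extend (b.equivFun.toLinearMap ∘ₗ π) κ
  have hv : LinearIndependent L v := by
    rw [Fintype.linearIndependent_iff]
    intro c hc a
    have hb : ∀ a' a'', b.equivFun (π (b a' : K ⊗[R] (Fin d → R))) a'' = if a' = a'' then 1 else 0 := by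
      intro a' a''
      rw [show π (b a' : K ⊗[R] (Fin d → R)) = b a' from congr($hπ (b a'))]
      exact b.equivFun_self a' a''
    have := congrArg (fun x => P' x a) hc
    simp only [v, map_sum, map_smul, Finset.sum_apply, Pi.smul_apply,
      hP', LinearMap.comp_apply, LinearEquiv.coe_coe, hb, apply_ite κ, map_one, map_zero, smul_eq_mul,
      mul_ite, mul_one, mul_zero, Finset.sum_ite_eq', Finset.mem_univ, if_true, Pi.zero_apply] at this
    exact this
  refine le_of_eq_of_le (Eq.trans (Fintype.card_fin _).symm (finrank_span_eq_card hv).symm)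
    (Submodule.finrank_mono (Submodule.span_le.2 ?_))
  rintro _ ⟨a, rfl⟩
  exact h _ (b a).2

variable {f g : Fin n → (Fin d → R) →ₗ[R] (Fin d → R)} {s : R} {X : Over (Spec (CommRingCat.of R))}
  (e : ∀ A : CommAlgCat.{u} R, (SR A ⟶ X) ≃ W4c1limliniiii.LGPoints R d r n f g A)

/-- The point of the scheme under a rational point. -/
abbrev ptOf (x : SR (CommAlgCat.of R K) ⟶ X) : X.left := x.left (IsLocalRing.closedPoint K)

/-- The forward ranks of a rational point. -/
abbrev fRank (x : SR (CommAlgCat.of R K) ⟶ X) (m : Fin n) : ℕ :=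
  Module.finrank K (((e (CommAlgCat.of R K) x).1 m.castSucc).toSubmodule.map ((f m).baseChange K))

/-- The backward ranks of a rational point. -/
abbrev gRank (x : SR (CommAlgCat.of R K) ⟶ X) (m : Fin n) : ℕ :=
  Module.finrank K (((e (CommAlgCat.of R K) x).1 m.succ).toSubmodule.map ((g m).baseChange K))

variable {e} (he : ∀ (A B : CommAlgCat.{u} R) (φ : A ⟶ B) (x : SR A ⟶ X) (x' : SR B ⟶ X),
    x'.left = Spec.map (CommRingCat.ofHom φ.hom.toRingHom) ≫ x.left →
      ∀ i, (e B x').1 i = Module.Grassmannian.map φ.hom ((e A x).1 i))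
  (hrd : r ≤ d) (hI : ∀ i, (f i).comp (g i) = s • LinearMap.id ∧ (g i).comp (f i) = s • LinearMap.id)
  (hT : Transversal f g s)

include he hrd hI hT in
/-- A point that is not exact has a generisation with larger forward and no larger backward ranks. -/
theorem exists_step (hs : algebraMap R K s = 0) (x : SR (CommAlgCat.of R K) ⟶ X)
    (hx : ¬ W4c1limliniiii.IsExact R d r n f g K (e (CommAlgCat.of R K) x).1) :
    ∃ (L : Type u) (_ : Field L) (_ : Algebra R L) (_ : algebraMap R L s = 0)
      (y : SR (CommAlgCat.of R L) ⟶ X),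
      ptOf y ⤳ ptOf x ∧ (∀ m, fRank e x m ≤ fRank e y m) ∧ (∀ m, gRank e y m ≤ gRank e x m) ∧
        ∃ i, fRank e x i < fRank e y i := by
  classical
  let E := K ⊗[R] (Fin d → R)
  haveI : ∀ U : Submodule K E, Module.Free K U := fun U => Module.Free.of_divisionRing K U
  let V : Fin (n + 1) → Submodule K E := fun i => ((e (CommAlgCat.of R K) x).1 i).toSubmodule
  have hV : ∀ i, Module.finrank K (V i) = r := fun i => finrank_point hrd _
  have hVf : ∀ i : Fin n, ∀ v ∈ V i.castSucc, (f i).baseChange K v ∈ V i.succ :=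
    fun i v hv => ((e (CommAlgCat.of R K) x).2 i).1 ⟨v, hv, rfl⟩
  have hVg : ∀ i : Fin n, ∀ v ∈ V i.succ, (g i).baseChange K v ∈ V i.castSucc :=
    fun i v hv => ((e (CommAlgCat.of R K) x).2 i).2 ⟨v, hv, rfl⟩
  have h0 : ∀ i v, (f i).baseChange K ((g i).baseChange K v) = 0 ∧
      (g i).baseChange K ((f i).baseChange K v) = 0 := fun i v =>
    ⟨by simpa [hs] using congr($((baseChange_link (K := K) hI i).1) v),
      by simpa [hs] using congr($((baseChange_link (K := K) hI i).2) v)⟩
  obtain ⟨i, hi⟩ := exists_not_le_of_not_exact (f := fun a => (f a).baseChange K)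
    (g := fun a => (g a).baseChange K) h0 V hV hVg hx
  obtain ⟨ψ, hF, hG, hO, u, huV, hu0, huy, huv⟩ := exists_direction (f := fun a => (f a).baseChange K)
    (g := fun a => (g a).baseChange K) h0 ((hT K).2 hs)
    (fun a b h => ((hT K).1 a b h).2) V hV hVf i hi
  -- the family over power series
  let A : CommAlgCat.{u} R := CommAlgCat.of R (PowerSeries K)
  let ι : K →ₐ[R] PowerSeries K := IsScalarTower.toAlgHom R K (PowerSeries K)
  let t : PowerSeries K := PowerSeries.X
  let ε : PowerSeries K →ₐ[R] K :=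
    { PowerSeries.constantCoeff (R := K) with
      commutes' := fun a => by
        show PowerSeries.constantCoeff (algebraMap R (PowerSeries K) a) = algebraMap R K a
        rw [IsScalarTower.algebraMap_apply R K (PowerSeries K)]
        simp }
  have hει : ε.comp ι = AlgHom.id R K := AlgHom.ext fun a => by
    show PowerSeries.constantCoeff (algebraMap K (PowerSeries K) a) = a
    simp
  let Λ : Fin (n + 1) → E → PowerSeries K ⊗[R] (Fin d → R) := fun j v =>
    bc _ ι v + t • bc _ ι (ψ j v)
  have hΛs : ∀ j (c : K) v, Λ j (c • v) = ι c • Λ j v := fun j c v => by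
    show bc _ ι (c • v) + t • bc _ ι (ψ j (c • v)) = ι c • (bc _ ι v + t • bc _ ι (ψ j v))
    rw [show bc _ ι (c • v) = ι c • bc _ ι v from bc_smul R ι c v, map_smul, bc_smul, smul_add,
      smul_comm t (ι c)]
  have hΛa : ∀ j v w, Λ j (v + w) = Λ j v + Λ j w := fun j v w => by
    simp only [Λ, map_add, smul_add]; abel
  let b : ∀ j, Module.Basis (Fin r) K (V j) := fun j => Module.finBasisOfFinrankEq K (V j) (hV j)
  let Φ : ∀ _ : Fin (n + 1), (Fin r → PowerSeries K) →ₗ[PowerSeries K] PowerSeries K ⊗[R] (Fin d → R) :=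
    fun j => Fintype.linearCombination (PowerSeries K) fun l => Λ j (b j l : E)
  have hΛmem : ∀ j, ∀ v ∈ V j, Λ j v ∈ LinearMap.range (Φ j) := fun j v hv => by
    refine ⟨fun l => ι ((b j).repr ⟨v, hv⟩ l), ?_⟩
    rw [Fintype.linearCombination_apply]
    let Λ' : E →+ PowerSeries K ⊗[R] (Fin d → R) := AddMonoidHom.mk' (Λ j) (hΛa j)
    have h2 : v = ∑ l, (b j).repr ⟨v, hv⟩ l • (b j l : E) := by
      have := congrArg Subtype.val ((b j).sum_repr ⟨v, hv⟩)
      rw [Submodule.coe_sum] at this
      exact this.symm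
    conv_rhs => rw [h2, show Λ j _ = Λ' _ from rfl, map_sum]
    exact Finset.sum_congr rfl fun l _ => (hΛs j _ _).symm
  have hsplit : ∀ j, ∃ P, P ∘ₗ Φ j = LinearMap.id := fun j => by
    obtain ⟨π, hπ⟩ := exists_retraction (V j)
    obtain ⟨P', hP'⟩ := exists_extend ((b j).equivFun.toLinearMap ∘ₗ π) ι
    let M : Matrix (Fin r) (Fin r) (PowerSeries K) := Matrix.of fun a l => P' (Λ j (b j l : E)) a
    have hM : P' ∘ₗ Φ j = Matrix.toLin' M := (Pi.basisFun _ (Fin r)).ext fun l => by
      funext a
      simp [Φ, M, Fintype.linearCombination_apply_single]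
    have hMu : IsUnit M.det := by
      rw [PowerSeries.isUnit_iff_constantCoeff, RingHom.map_det]
      have : (PowerSeries.constantCoeff (R := K)).mapMatrix M = 1 := by
        ext a l
        show PowerSeries.constantCoeff (P' (Λ j (b j l : E)) a) = _
        have h1 : π (b j l : E) = b j l := congr($hπ (b j l))
        simp only [Λ, map_add, map_smul, Pi.add_apply, Pi.smul_apply, smul_eq_mul, map_mul, hP',
          LinearMap.comp_apply, h1, t, PowerSeries.constantCoeff_X, zero_mul, add_zero]
        show ε (ι _) = _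
        rw [← AlgHom.comp_apply, hει, AlgHom.id_apply, LinearEquiv.coe_coe,
          show π (b j l : E) = b j l from h1, (b j).equivFun_self, Matrix.one_apply]
        exact if_congr eq_comm rfl rfl
      rw [this, Matrix.det_one]
      exact isUnit_one
    refine ⟨Matrix.toLin' M⁻¹ ∘ₗ P', ?_⟩
    rw [LinearMap.comp_assoc, hM, ← Matrix.toLin'_mul, Matrix.nonsing_inv_mul _ hMu, Matrix.toLin'_one]
  choose P hP using hsplit
  have hfree : ∀ _ : Nontrivial (PowerSeries K),
      Module.finrank (PowerSeries K) (PowerSeries K ⊗[R] (Fin d → R)) = d := fun h => finrank_free h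
  let W : Fin (n + 1) → Module.Grassmannian A (A ⊗[R] (Fin d → R)) (d - r) := fun j =>
    { toSubmodule := LinearMap.range (Φ j)
      finite_quotient := (split_quotient (Φ j) (P j) (hP j) hfree).1
      projective_quotient := (split_quotient (Φ j) (P j) (hP j) hfree).2.1
      rankAtStalk_eq := (split_quotient (Φ j) (P j) (hP j) hfree).2.2 }
  have hΦle : ∀ j (S : Submodule (PowerSeries K) (PowerSeries K ⊗[R] (Fin d → R))),
      (∀ l, Λ j (b j l : E) ∈ S) → LinearMap.range (Φ j) ≤ S := fun j S h => by
    show LinearMap.range (Fintype.linearCombination (PowerSeries K) _) ≤ S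
    rw [Fintype.range_linearCombination, Submodule.span_le]
    rintro _ ⟨l, rfl⟩
    exact h l
  have hW : W ∈ W4c1limliniiii.LGPoints R d r n f g A := fun m => by
    show Submodule.map ((f m).baseChange (PowerSeries K)) (LinearMap.range (Φ m.castSucc)) ≤
        LinearMap.range (Φ m.succ) ∧
      Submodule.map ((g m).baseChange (PowerSeries K)) (LinearMap.range (Φ m.succ)) ≤
        LinearMap.range (Φ m.castSucc)
    refine ⟨Submodule.map_le_iff_le_comap.2 (hΦle _ _ fun l => ?_),
      Submodule.map_le_iff_le_comap.2 (hΦle _ _ fun l => ?_)⟩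
    · rw [Submodule.mem_comap]
      obtain ⟨h1, h2⟩ := hF m _ (b m.castSucc l).2
      set w := (f m).baseChange K (ψ m.castSucc (b m.castSucc l : E)) -
        ψ m.succ ((f m).baseChange K (b m.castSucc l : E)) with hw
      have : (f m).baseChange (PowerSeries K) (Λ m.castSucc (b m.castSucc l : E)) =
          Λ m.succ ((f m).baseChange K (b m.castSucc l : E)) + t • Λ m.succ w := by
        simp only [Λ, h2, map_zero, smul_zero, add_zero, map_add, map_smul, ← bc_baseChange]
        rw [add_assoc, ← smul_add, ← map_add, hw, add_sub_cancel]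
      rw [this]
      exact add_mem (hΛmem _ _ (hVf m _ (b m.castSucc l).2)) (Submodule.smul_mem _ _ (hΛmem _ _ h1))
    · rw [Submodule.mem_comap]
      have : (g m).baseChange (PowerSeries K) (Λ m.succ (b m.succ l : E)) =
          Λ m.castSucc ((g m).baseChange K (b m.succ l : E)) := by
        simp only [Λ, map_add, map_smul, ← bc_baseChange, hG m _ (b m.succ l).2]
      rw [this]
      exact hΛmem _ _ (hVg m _ (b m.succ l).2)
  let xA : SR A ⟶ X := (e A).symm ⟨W, hW⟩
  -- the special point
  have hspec : smap (A := A) (B := CommAlgCat.of R K) (CommAlgCat.ofHom ε) ≫ xA = x := by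
    refine (e (CommAlgCat.of R K)).injective (Subtype.ext ?_)
    rw [e_smap he]
    funext j
    simp only [xA, Equiv.apply_symm_apply, CommAlgCat.hom_ofHom]
    refine (grassmannian_eq_of_le _ _ fun v hv => ?_).symm
    rw [map_toSubmodule_eq_span]
    refine Submodule.subset_span ⟨Λ j v, hΛmem j v hv, ?_⟩
    simp only [Λ, map_add, bc_smul]
    rw [show ε t = 0 from PowerSeries.constantCoeff_X, zero_smul, add_zero]
    show bc _ ε (bc _ ι v) = v
    rw [bc_bc, hει]
    exact congr($(LinearMap.rTensor_id (Fin d → R) K) v)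
  -- the generic point
  let L : Type u := FractionRing (PowerSeries K)
  let j : PowerSeries K →ₐ[R] L := IsScalarTower.toAlgHom R (PowerSeries K) L
  let κ : K →ₐ[R] L := j.comp ι
  have hsL : algebraMap R L s = 0 := by
    rw [← κ.commutes, hs, map_zero]
  let y : SR (CommAlgCat.of R L) ⟶ X := smap (A := A) (CommAlgCat.ofHom j) ≫ xA
  have hy : ∀ m, ((e (CommAlgCat.of R L) y).1 m).toSubmodule =
      Submodule.span L (bc _ j '' (LinearMap.range (Φ m) : Set _)) := fun m => by
    rw [show (e (CommAlgCat.of R L) y).1 = _ from e_smap he _ xA]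
    simp only [xA, Equiv.apply_symm_apply]
    exact map_toSubmodule_eq_span j (W m)
  let ΛL : Fin (n + 1) → E → L ⊗[R] (Fin d → R) := fun m v => bc _ κ v + j t • bc _ κ (ψ m v)
  have hΛL : ∀ m v, bc _ j (Λ m v) = ΛL m v := fun m v => by
    simp only [Λ, ΛL, κ, map_add, bc_smul, bc_bc]
  have hΛLmem : ∀ m, ∀ v ∈ V m, ΛL m v ∈ ((e (CommAlgCat.of R L) y).1 m).toSubmodule := fun m v hv => by
    rw [hy, ← hΛL]
    exact Submodule.subset_span ⟨_, hΛmem m v hv, rfl⟩
  have ht : j t ≠ 0 := (map_ne_zero_iff _ (IsFractionRing.injective (PowerSeries K) L)).2 PowerSeries.X_ne_zero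
  refine ⟨L, inferInstance, inferInstance, hsL, y, ?_, ?_, ?_, i, ?_⟩
  · rw [← hspec]
    show xA.left ((Spec.map (CommRingCat.ofHom j.toRingHom)) (IsLocalRing.closedPoint L)) ⤳
      xA.left ((Spec.map (CommRingCat.ofHom ε.toRingHom)) (IsLocalRing.closedPoint K))
    refine Specializes.map ?_ xA.left.continuous
    refine (PrimeSpectrum.le_iff_specializes (PrimeSpectrum.comap j.toRingHom (IsLocalRing.closedPoint L))
      (PrimeSpectrum.comap ε.toRingHom (IsLocalRing.closedPoint K))).1 ?_
    intro a ha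
    have h0 : j a = 0 := by
      have : j a ∈ IsLocalRing.maximalIdeal L := ha
      rwa [IsLocalRing.maximalIdeal_eq_bot, Ideal.mem_bot] at this
    rw [show a = 0 from (map_eq_zero_iff _ (IsFractionRing.injective (PowerSeries K) L)).1 h0]
    exact zero_mem _
  · intro m
    refine finrank_le_of_bc κ _ _ ?_
    rintro _ ⟨v, hv, rfl⟩
    rcases eq_or_ne m i with rfl | hm
    · obtain ⟨c, hc⟩ := huv v hv
      have hy' : bc _ κ ((f m).baseChange K (ψ m.castSucc u)) ∈
          ((e (CommAlgCat.of R L) y).1 m.castSucc).toSubmodule.map ((f m).baseChange L) := by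
        rw [← Submodule.smul_mem_iff _ ht]
        refine ⟨_, hΛLmem _ u huV, ?_⟩
        simp only [ΛL, map_add, map_smul, ← bc_baseChange, hu0, map_zero, zero_add]
      rw [show bc _ κ ((f m).baseChange K v) = (f m).baseChange L (ΛL m.castSucc v) -
        j t • κ c • bc _ κ ((f m).baseChange K (ψ m.castSucc u)) by
          simp only [ΛL, map_add, map_smul, ← bc_baseChange, hc, bc_smul, add_sub_cancel_right]]
      exact sub_mem ⟨_, hΛLmem _ v hv, rfl⟩ (Submodule.smul_mem _ _ (Submodule.smul_mem _ _ hy'))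
    · refine ⟨_, hΛLmem _ v hv, ?_⟩
      simp only [ΛL, map_add, map_smul, ← bc_baseChange, hO m hm v hv, map_zero, smul_zero, add_zero]
  · intro m
    let U := (V m.succ).map ((g m).baseChange K)
    let bU := Module.finBasis K U
    refine le_trans (Submodule.finrank_mono (t := Submodule.span L (Set.range fun a => ΛL m.castSucc (bU a : E))) ?_)
      ((finrank_range_le_card (R := L) _).trans_eq (Fintype.card_fin _))
    rw [hy, Submodule.map_span, Submodule.span_le]
    rintro _ ⟨_, ⟨z, hz, rfl⟩, rfl⟩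
    obtain ⟨α, rfl⟩ := hz
    simp only [Φ, Fintype.linearCombination_apply, map_sum, bc_smul, map_smul]
    refine Submodule.sum_mem _ fun l _ => Submodule.smul_mem _ _ ?_
    rw [hΛL, show (g m).baseChange L (ΛL m.succ (b m.succ l : E)) =
      ΛL m.castSucc ((g m).baseChange K (b m.succ l : E)) by
        simp only [ΛL, map_add, map_smul, ← bc_baseChange, hG m _ (b m.succ l).2]]
    let ΛL' : E →+ L ⊗[R] (Fin d → R) := AddMonoidHom.mk' (ΛL m.castSucc) fun v w => by
      simp only [ΛL, map_add, smul_add]; abel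
    have hmem : (g m).baseChange K (b m.succ l : E) ∈ U := ⟨_, (b m.succ l).2, rfl⟩
    have h2 : (g m).baseChange K (b m.succ l : E) = ∑ a, bU.repr ⟨_, hmem⟩ a • (bU a : E) := by
      have := congrArg Subtype.val (bU.sum_repr ⟨_, hmem⟩)
      rw [Submodule.coe_sum] at this
      exact this.symm
    rw [h2, show ΛL m.castSucc _ = ΛL' _ from rfl, map_sum]
    refine Submodule.sum_mem _ fun a _ => ?_
    rw [show ΛL' (bU.repr ⟨_, hmem⟩ a • (bU a : E)) = κ (bU.repr ⟨_, hmem⟩ a) • ΛL m.castSucc (bU a : E) by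
      simp only [ΛL', AddMonoidHom.mk'_apply, ΛL, map_smul, bc_smul, smul_add, smul_comm (j t)]]
    exact Submodule.smul_mem _ _ (Submodule.subset_span ⟨a, rfl⟩)
  · have hy' : bc _ κ ((f i).baseChange K (ψ i.castSucc u)) ∈
        ((e (CommAlgCat.of R L) y).1 i.castSucc).toSubmodule.map ((f i).baseChange L) := by
      rw [← Submodule.smul_mem_iff _ ht]
      refine ⟨_, hΛLmem _ u huV, ?_⟩
      simp only [ΛL, map_add, map_smul, ← bc_baseChange, hu0, map_zero, zero_add]
    let yv := (f i).baseChange K (ψ i.castSucc u)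
    refine lt_of_lt_of_le (Submodule.finrank_lt_finrank_of_lt
      (t := (V i.castSucc).map ((f i).baseChange K) ⊔ Submodule.span K {yv}) ?_) (finrank_le_of_bc κ _ _ ?_)
    · refine lt_of_le_not_ge le_sup_left fun hle => huy (hle ?_)
      exact Submodule.mem_sup_right (Submodule.mem_span_singleton_self _)
    · intro w hw
      obtain ⟨_, ⟨v, hv, rfl⟩, z, hz, rfl⟩ := Submodule.mem_sup.1 hw
      obtain ⟨c', rfl⟩ := Submodule.mem_span_singleton.1 hz
      obtain ⟨c, hc⟩ := huv v hv
      rw [map_add, bc_smul]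
      refine add_mem ?_ (Submodule.smul_mem _ _ hy')
      rw [show bc _ κ ((f i).baseChange K v) = (f i).baseChange L (ΛL i.castSucc v) -
        j t • κ c • bc _ κ ((f i).baseChange K (ψ i.castSucc u)) by
          simp only [ΛL, map_add, map_smul, ← bc_baseChange, hc, bc_smul, add_sub_cancel_right]]
      exact sub_mem ⟨_, hΛLmem _ v hv, rfl⟩ (Submodule.smul_mem _ _ (Submodule.smul_mem _ _ hy'))

include he hrd hI hT in
/-- Every point has an exact generisation with no larger backward ranks. -/
theorem exists_exact_generization (x : SR (CommAlgCat.of R K) ⟶ X) :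
    ∃ (L : Type u) (_ : Field L) (_ : Algebra R L) (y : SR (CommAlgCat.of R L) ⟶ X),
      W4c1limliniiii.IsExact R d r n f g L (e (CommAlgCat.of R L) y).1 ∧
      ptOf y ⤳ ptOf x ∧
      (algebraMap R K s = 0 → algebraMap R L s = 0 ∧ ∀ m, gRank e y m ≤ gRank e x m) := by
  suffices H : ∀ (δ : ℕ) (K : Type u) [Field K] [Algebra R K] (x : SR (CommAlgCat.of R K) ⟶ X),
      ∑ m, (r - fRank e x m) = δ →
      ∃ (L : Type u) (_ : Field L) (_ : Algebra R L) (y : SR (CommAlgCat.of R L) ⟶ X),
        W4c1limliniiii.IsExact R d r n f g L (e (CommAlgCat.of R L) y).1 ∧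
        ptOf y ⤳ ptOf x ∧
        (algebraMap R K s = 0 → algebraMap R L s = 0 ∧ ∀ m, gRank e y m ≤ gRank e x m) from H _ K x rfl
  intro δ
  induction δ using Nat.strong_induction_on with
  | _ δ ih =>
    intro K _ _ x hδ
    by_cases hx : W4c1limliniiii.IsExact R d r n f g K (e (CommAlgCat.of R K) x).1
    · exact ⟨K, inferInstance, inferInstance, x, hx, specializes_rfl, fun h => ⟨h, fun _ => le_rfl⟩⟩
    have hs : algebraMap R K s = 0 := by
      by_contra hs
      exact hx (isExact_of_ne_zero hI hs _)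
    obtain ⟨L, _, _, hsL, y, hsp, hle, hge, i, hlt⟩ := exists_step he hrd hI hT hs x hx
    have hley : ∀ m, fRank e y m ≤ r := fun m =>
      (Submodule.finrank_map_le _ _).trans_eq (finrank_point hrd _)
    obtain ⟨L', _, _, y', hy', hsp', hrest⟩ := ih (∑ m, (r - fRank e y m)) (by
      rw [← hδ]
      refine Finset.sum_lt_sum (fun m _ => Nat.sub_le_sub_left (hle m) r) ⟨i, Finset.mem_univ _, ?_⟩
      have := hley i
      omega) L y rfl
    exact ⟨L', inferInstance, inferInstance, y', hy', hsp'.trans hsp, fun _ =>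
      ⟨(hrest hsL).1, fun m => ((hrest hsL).2 m).trans (hge m)⟩⟩

end

end Groth.Agent.H7LGr
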