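import Groth.Agent.H7LGr.Components
import Groth.Agent.H26Gr.LinkedRep

/-!
# Linked Grassmannians with non-vanishing scalar are irreducible
-/

set_option autoImplicit false
set_option backward.isDefEq.respectTransparency false
set_option backward.isDefEq.respectTransparency.types false

universe u

open CategoryTheory AlgebraicGeometry TensorProduct

namespace Groth.Agent.H7LGr

open H26Gr (SR smap bc bb bc_smul bc_bb exists_lift_away exists_inChart_of_field)

noncomputable section

variable {R : Type u} [CommRing R] {d r n : ℕ} {f g : Fin n → (Fin d → R) →ₗ[R] (Fin d → R)} {s : R}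
  {X : Over (Spec (CommRingCat.of R))}
  {e : ∀ A : CommAlgCat.{u} R, (SR A ⟶ X) ≃ W4c1limliniiii.LGPoints R d r n f g A}
  (he : ∀ (A B : CommAlgCat.{u} R) (φ : A ⟶ B) (x : SR A ⟶ X) (x' : SR B ⟶ X),
    x'.left = Spec.map (CommRingCat.ofHom φ.hom.toRingHom) ≫ x.left →
      ∀ i, (e B x').1 i = Module.Grassmannian.map φ.hom ((e A x).1 i))
  (hI : ∀ i, (f i).comp (g i) = s • LinearMap.id ∧ (g i).comp (f i) = s • LinearMap.id)

include he in
/-- A representing scheme is proper. -/
theorem isProper_rep : IsProper X.hom := by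
  obtain ⟨W, E, hE, hW⟩ := H26Gr.exists_linked (R := R) d r n f g
  have key : ∀ {Y Z : Over (Spec (CommRingCat.of R))}
      (a : ∀ A : CommAlgCat.{u} R, (SR A ⟶ Y) ≃ W4c1limliniiii.LGPoints R d r n f g A)
      (b : ∀ A : CommAlgCat.{u} R, (SR A ⟶ Z) ≃ W4c1limliniiii.LGPoints R d r n f g A),
      (∀ (A B : CommAlgCat.{u} R) (φ : A ⟶ B) (x : SR A ⟶ Y) (x' : SR B ⟶ Y),
        x'.left = Spec.map (CommRingCat.ofHom φ.hom.toRingHom) ≫ x.left →
          ∀ i, (a B x').1 i = Module.Grassmannian.map φ.hom ((a A x).1 i)) →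
      (∀ (A B : CommAlgCat.{u} R) (φ : A ⟶ B) (x : SR A ⟶ Z) (x' : SR B ⟶ Z),
        x'.left = Spec.map (CommRingCat.ofHom φ.hom.toRingHom) ≫ x.left →
          ∀ i, (b B x').1 i = Module.Grassmannian.map φ.hom ((b A x).1 i)) →
      ∃ c : Y ⟶ Z, ∀ (A : CommAlgCat.{u} R) (x : SR A ⟶ Y), x ≫ c = (b A).symm (a A x) := by
    intro Y Z a b ha hb
    refine H26Gr.exists_hom_of_points (fun A x => (b A).symm (a A x)) fun A B φ x x' h => ?_
    have : (b B).symm (a B x') = smap φ ≫ (b A).symm (a A x) := by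
      refine (b B).injective (Subtype.ext (funext fun i => ?_))
      rw [Equiv.apply_symm_apply, ha A B φ x x' h i, hb A B φ _ (smap φ ≫ (b A).symm (a A x)) rfl i,
        Equiv.apply_symm_apply]
    rw [this]
    rfl
  obtain ⟨c, hc⟩ := key e E he hE
  obtain ⟨c', hc'⟩ := key E e hE he
  let i : X ≅ W :=
    { hom := c
      inv := c'
      hom_inv_id := H26Gr.hom_ext_points fun A x => by
        rw [← Category.assoc, hc, hc', Category.comp_id, Equiv.apply_symm_apply, Equiv.symm_apply_apply]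
      inv_hom_id := H26Gr.hom_ext_points fun A x => by
        rw [← Category.assoc, hc', hc, Category.comp_id, Equiv.apply_symm_apply, Equiv.symm_apply_apply] }
  haveI : IsIso c := i.isIso_hom
  haveI : IsIso c.left := (Over.forget _).map_isIso c
  haveI : IsProper W.hom := hW
  rw [← Over.w c]
  infer_instance

include hI in
/-- Transports from the first member are injective when the scalar does not vanish. -/
theorem tr_injective {K : Type u} [Field K] [Algebra R K] (hs : algebraMap R K s ≠ 0) (i : Fin (n + 1)) :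
    Function.Injective (tr (fun a => (f a).baseChange K) (fun a => (g a).baseChange K) i 0) := by
  induction i using Fin.induction with
  | zero => rw [Fin.val_zero, tr_self]; exact Function.injective_id
  | succ b ih =>
    rw [Fin.val_succ, tr_succ_of_le _ _ b (Nat.zero_le _)]
    exact (LinearMap.ker_eq_bot.1 (ker_eq_bot_of_ne_zero hs (baseChange_link hI b).2)).comp ih

variable (R d r) in
/-- The generic frame in the first member. -/
abbrev genFrame (l : Fin r) :
    MvPolynomial (Fin r × Fin d) R ⊗[R] (Fin d → R) :=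
  ∑ a, (MvPolynomial.X (l, a) : MvPolynomial (Fin r × Fin d) R) • bb R (MvPolynomial (Fin r × Fin d) R) a

theorem bc_genFrame {K : Type u} [Field K] [Algebra R K] (v : Fin r × Fin d → K) (l : Fin r) :
    bc (Fin d → R) (MvPolynomial.aeval v) (genFrame R d r l) = ∑ a, v (l, a) • bb R K a := by
  rw [genFrame, map_sum]
  refine Finset.sum_congr rfl fun a _ => ?_
  rw [bc_smul R (MvPolynomial.aeval v), bc_bb R (MvPolynomial.aeval v), MvPolynomial.aeval_X]

variable [IsDomain R] (hrd : r ≤ d)

omit [IsDomain R] in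
include hI hrd in
/-- A tuple over a field with non-vanishing scalar has a frame in its first member. -/
theorem exists_frame_zero {K : Type u} [Field K] [Algebra R K] (hsK : algebraMap R K s ≠ 0)
    (V : Fin (n + 1) → Module.Grassmannian K (K ⊗[R] (Fin d → R)) (d - r))
    (hV : V ∈ W4c1limliniiii.LGPoints R d r n f g K) :
    ∃ (L : Fin (n + 1) → (Fin d → R) →ₗ[R] (Fin r → R)) (v : Fin r × Fin d → K),
      (∀ i, IsUnit (fmat f g (fun _ => 0) L (fun l => ∑ a, v (l, a) • bb R K a) i).det) ∧
      ∀ l, (∑ a, v (l, a) • bb R K a) ∈ (V 0).toSubmodule := by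
  classical
  haveI : Module.Free K (V 0).toSubmodule := Module.Free.of_divisionRing K (V 0).toSubmodule
  let b := Module.finBasisOfFinrankEq K (V 0).toSubmodule (finrank_point hrd (V 0))
  let w : Fin r → K ⊗[R] (Fin d → R) := fun l => (b l : K ⊗[R] (Fin d → R))
  choose S hS using fun i => exists_inChart_of_field R K (V i)
  let q : Ch d r n := ⟨fun _ => 0, fun l => Fin.castLE hrd l, S⟩
  refine ⟨proj R hrd q, fun la => (bb R K).repr (w la.1) la.2, ?_⟩
  rw [show (fun l => ∑ a, (bb R K).repr (w l) a • bb R K a) = w from funext fun l => (bb R K).sum_repr (w l)]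
  refine ⟨fun i => ?_, fun l => ?_⟩
  swap
  · show ∑ a, (bb R K).repr (w l) a • bb R K a ∈ (V 0).toSubmodule
    rw [(bb R K).sum_repr]
    exact (b l).2
  have hmem : ∀ l, (tr f g i 0).baseChange K (w l) ∈ (V i).toSubmodule := fun l => by
    rw [← baseChange_tr]
    exact tr_mem _ _ (fun j => (V j).toSubmodule) (fun j x hx => (hV j).1 ⟨x, hx, rfl⟩)
      (fun j x hx => (hV j).2 ⟨x, hx, rfl⟩) i 0 (b l).2
  rw [← Matrix.isUnit_iff_isUnit_det, ← Matrix.mulVec_injective_iff_isUnit]
  refine (injective_iff_map_eq_zero (Matrix.toLin' (fmat f g (fun _ => 0) (proj R hrd q) w i))).2 fun u hu => ?_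
  rw [← readA_comb, LinearMap.comp_apply] at hu
  have hm : comb f g (fun _ => 0) w i u ∈ (V i).toSubmodule := by
    rw [comb, Fintype.linearCombination_apply]
    exact Submodule.sum_mem _ fun l _ => Submodule.smul_mem _ _ (hmem l)
  have h2 : comb f g (fun _ => 0) w i u ∈
      (V i).toSubmodule ⊓ Submodule.span K (Set.range fun a => bb R K (S i a)) :=
    ⟨hm, mem_span_of_readA_eq_zero (hrd := hrd) (q := q) i hu⟩
  rw [inf_span_eq_bot hrd (V i) (hS i), Submodule.mem_bot, comb, Fintype.linearCombination_apply] at h2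
  have h3 : tr (fun a => (f a).baseChange K) (fun a => (g a).baseChange K) i 0 (∑ l, u l • w l) = 0 := by
    rw [baseChange_tr, map_sum]
    simpa [map_smul] using h2
  have h4 : ∑ l, u l • w l = 0 := tr_injective hI hsK i (h3.trans (map_zero _).symm)
  have h5 : (V 0).toSubmodule.subtype (b.equivFun.symm u) = 0 := by
    rw [Module.Basis.equivFun_symm_apply, map_sum]
    refine Eq.trans (Finset.sum_congr rfl fun l _ => ?_) h4
    exact map_smul _ _ _
  rw [LinearMap.map_eq_zero_iff _ Subtype.val_injective, LinearEquiv.map_eq_zero_iff] at h5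
  exact h5

omit [IsDomain R] in
include he in
theorem algebraMap_ne_zero_of_generic {K : Type u} [Field K] [Algebra R K]
    (x : SR (CommAlgCat.of R K) ⟶ X) (hgen : (X.hom (ptOf x) : PrimeSpectrum R).asIdeal = ⊥) (hs : s ≠ 0) :
    algebraMap R K s ≠ 0 := by
  intro h0
  refine hs ?_
  have hpt : (X.hom (ptOf x) : PrimeSpectrum R) =
      PrimeSpectrum.comap (algebraMap R K) (IsLocalRing.closedPoint K) :=
    congrArg (fun m : Spec (CommRingCat.of K) ⟶ Spec (CommRingCat.of R) =>
      (m (IsLocalRing.closedPoint K) : PrimeSpectrum R)) (Over.w x)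
  rw [hpt] at hgen
  have : s ∈ (⊥ : Ideal R) := by
    rw [← hgen]
    show algebraMap R K s ∈ (IsLocalRing.closedPoint K).asIdeal
    rw [h0]
    exact zero_mem _
  exact (Ideal.mem_bot).1 this

omit [IsDomain R] in
/-- Specialisation of points with values in a localisation. -/
theorem ptOf_specializes {P B : Type u} [CommRing P] [CommRing B] [Algebra R B] [Algebra P B]
    (M : Submonoid P) [IsLocalization M B] {K L : Type u} [Field K] [Algebra R K] [Field L] [Algebra R L]
    (xB : SR (CommAlgCat.of R B) ⟶ X) (ψ : B →ₐ[R] K) (ψ₀ : B →ₐ[R] L)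
    (h : Function.Injective (ψ₀.toRingHom.comp (algebraMap P B))) :
    ptOf (smap (A := CommAlgCat.of R B) (B := CommAlgCat.of R L) (CommAlgCat.ofHom ψ₀) ≫ xB) ⤳
      ptOf (smap (A := CommAlgCat.of R B) (B := CommAlgCat.of R K) (CommAlgCat.ofHom ψ) ≫ xB) := by
  show xB.left ((Spec.map (CommRingCat.ofHom ψ₀.toRingHom)) (IsLocalRing.closedPoint L)) ⤳
    xB.left ((Spec.map (CommRingCat.ofHom ψ.toRingHom)) (IsLocalRing.closedPoint K))
  refine Specializes.map ?_ xB.left.continuous
  refine (PrimeSpectrum.le_iff_specializes (PrimeSpectrum.comap ψ₀.toRingHom (IsLocalRing.closedPoint L))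
    (PrimeSpectrum.comap ψ.toRingHom (IsLocalRing.closedPoint K))).1 ?_
  intro a ha
  have h0 : ψ₀ a = 0 := by
    have : ψ₀ a ∈ IsLocalRing.maximalIdeal L := ha
    rwa [IsLocalRing.maximalIdeal_eq_bot, Ideal.mem_bot] at this
  obtain ⟨⟨y, m⟩, hy⟩ := IsLocalization.surj M a
  have hy0 : ψ₀ (algebraMap P B y) = 0 := by rw [← hy, map_mul, h0, zero_mul]
  have hy0' : y = 0 := h (show ψ₀ (algebraMap P B y) = ψ₀ (algebraMap P B 0) by rw [hy0, map_zero, map_zero])
  rw [hy0', map_zero] at hy
  rw [show a = 0 from (IsLocalization.map_units B m).mul_left_eq_zero.1 hy]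
  exact zero_mem _

include he hI in
/-- The generisation of a framed point with generic frame. -/
theorem exists_generic_point (L : Fin (n + 1) → (Fin d → R) →ₗ[R] (Fin r → R))
    {K : Type u} [Field K] [Algebra R K] (x : SR (CommAlgCat.of R K) ⟶ X) (v : Fin r × Fin d → K)
    (hdet : ∀ i, IsUnit (fmat f g (fun _ => 0) L (fun l => ∑ a, v (l, a) • bb R K a) i).det)
    (hm : ∀ l, (∑ a, v (l, a) • bb R K a) ∈ ((e (CommAlgCat.of R K) x).1 0).toSubmodule) :
    ∃ y : SR (CommAlgCat.of R (FractionRing (MvPolynomial (Fin r × Fin d) R))) ⟶ X, ptOf y ⤳ ptOf x ∧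
      ∀ i, ((e (CommAlgCat.of R (FractionRing (MvPolynomial (Fin r × Fin d) R))) y).1 i).toSubmodule =
        LinearMap.range (comb f g (fun _ => 0) (fun l => bc (Fin d → R) (IsScalarTower.toAlgHom R
          (MvPolynomial (Fin r × Fin d) R) (FractionRing (MvPolynomial (Fin r × Fin d) R)))
            (genFrame R d r l)) i) := by
  let ωY : Fin r → MvPolynomial (Fin r × Fin d) R ⊗[R] (Fin d → R) := fun l => genFrame R d r l
  let D : MvPolynomial (Fin r × Fin d) R := ∏ i, (fmat f g (fun _ => 0) L ωY i).det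
  let θ : MvPolynomial (Fin r × Fin d) R →ₐ[R] K := MvPolynomial.aeval v
  have hω : (fun l => bc (Fin d → R) θ (ωY l)) = fun l => ∑ a, v (l, a) • bb R K a :=
    funext (bc_genFrame v)
  have hθD : IsUnit (θ D) := by
    rw [map_prod, IsUnit.prod_univ_iff]
    intro i
    rw [← det_fmat_bc, hω]
    exact hdet i
  have hD : D ≠ 0 := fun h0 => by rw [h0, map_zero] at hθD; exact not_isUnit_zero hθD
  let j : MvPolynomial (Fin r × Fin d) R →ₐ[R] FractionRing (MvPolynomial (Fin r × Fin d) R) :=
    IsScalarTower.toAlgHom R _ _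
  have hj : Function.Injective j := IsFractionRing.injective _ _
  obtain ⟨ψ, hψ⟩ := exists_lift_away (P := Localization.Away D) θ D hθD
  obtain ⟨ψ₀, hψ₀⟩ := exists_lift_away (P := Localization.Away D) j D
    (isUnit_iff_ne_zero.2 ((map_ne_zero_iff _ hj).2 hD))
  let ι : MvPolynomial (Fin r × Fin d) R →ₐ[R] Localization.Away D := IsScalarTower.toAlgHom R _ _
  let ωB : Fin r → Localization.Away D ⊗[R] (Fin d → R) := fun l => bc _ ι (ωY l)
  have hdetB : ∀ i, IsUnit (fmat f g (fun _ => 0) L ωB i).det := by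
    have h : IsUnit (∏ i, (fmat f g (fun _ => 0) L ωB i).det) := by
      simp only [ωB, det_fmat_bc, ← map_prod]
      exact IsLocalization.Away.algebraMap_isUnit (S := Localization.Away D) D
    exact fun i => (IsUnit.prod_univ_iff.1 h) i
  let B : CommAlgCat.{u} R := CommAlgCat.of R (Localization.Away D)
  let xB : SR B ⟶ X := (e B).symm ⟨fun i => framePt ωB hdetB i, framePt_mem_LGPoints hI _ _⟩
  have hpt : ∀ (C : CommAlgCat.{u} R) (φ : B ⟶ C) (i : Fin (n + 1)),
      ((e C (smap φ ≫ xB)).1 i).toSubmodule =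
        LinearMap.range (comb f g (fun _ => 0) (fun l => bc _ φ.hom (ωB l)) i) := fun C φ i => by
    rw [e_smap he]
    simp only [xB, Equiv.apply_symm_apply, map_framePt]
    rfl
  have hxK : smap (A := B) (B := CommAlgCat.of R K) (CommAlgCat.ofHom ψ) ≫ xB = x := by
    refine (e _).injective (Subtype.ext (funext fun i => (grassmannian_eq_of_le _ _ ?_)))
    rw [hpt, range_comb, Submodule.span_le]
    rintro _ ⟨l, rfl⟩
    show (tr f g i 0).baseChange K (bc _ ψ (bc _ ι (ωY l))) ∈ ((e (CommAlgCat.of R K) x).1 i).toSubmodule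
    rw [H26Gr.bc_bc, show ψ.comp ι = θ from hψ, show bc _ θ (ωY l) = _ from congrFun hω l, ← baseChange_tr]
    exact tr_mem _ _ (fun j => ((e (CommAlgCat.of R K) x).1 j).toSubmodule)
      (fun j x' hx' => ((e _ x).2 j).1 ⟨x', hx', rfl⟩)
      (fun j x' hx' => ((e _ x).2 j).2 ⟨x', hx', rfl⟩) i 0 (hm l)
  refine ⟨smap (A := B) (CommAlgCat.ofHom ψ₀) ≫ xB, ?_, fun i => ?_⟩
  · conv_rhs => rw [← hxK]
    refine ptOf_specializes (Submonoid.powers D) xB ψ ψ₀ ?_
    rw [show ψ₀.toRingHom.comp (algebraMap _ (Localization.Away D)) = j.toRingHom from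
      congrArg AlgHom.toRingHom hψ₀]
    exact hj
  · rw [hpt]
    congr 2
    funext l
    show bc _ ψ₀ (bc _ ι (ωY l)) = _
    rw [H26Gr.bc_bc, show ψ₀.comp ι = j from hψ₀]

include he hI hrd in
/-- With non-vanishing scalar all generic points of components over the generic point agree. -/
theorem eq_of_maximal (hs : s ≠ 0) {η η' : X.left}
    (hη : ∀ y : X.left, y ⤳ η → y = η) (hη' : ∀ y : X.left, y ⤳ η' → y = η')
    (hgen : (X.hom η : PrimeSpectrum R).asIdeal = ⊥) (hgen' : (X.hom η' : PrimeSpectrum R).asIdeal = ⊥) :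
    η = η' := by
  obtain ⟨K, _, _, x, rfl⟩ := exists_residue_point η
  obtain ⟨K', _, _, x', rfl⟩ := exists_residue_point η'
  obtain ⟨L, v, hdet, hm⟩ := exists_frame_zero hI hrd (algebraMap_ne_zero_of_generic he x hgen hs)
    (e _ x).1 (e _ x).2
  obtain ⟨L', v', hdet', hm'⟩ := exists_frame_zero hI hrd (algebraMap_ne_zero_of_generic he x' hgen' hs)
    (e _ x').1 (e _ x').2
  obtain ⟨y, hy, hyv⟩ := exists_generic_point he hI L x v hdet hm
  obtain ⟨y', hy', hyv'⟩ := exists_generic_point he hI L' x' v' hdet' hm'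
  rw [← hη _ hy, ← hη' _ hy', show y = y' from (e _).injective (Subtype.ext (funext fun i =>
    Module.Grassmannian.ext ((hyv i).trans (hyv' i).symm)))]

include e hI hrd in
/-- With non-vanishing scalar there is a point. -/
theorem nonempty_of_ne_zero (hs : s ≠ 0) : Nonempty X.left := by
  let K := FractionRing R
  let F : Fin n → K ⊗[R] (Fin d → R) →ₗ[K] K ⊗[R] (Fin d → R) := fun i => (f i).baseChange K
  let G : Fin n → K ⊗[R] (Fin d → R) →ₗ[K] K ⊗[R] (Fin d → R) := fun i => (g i).baseChange K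
  have hsK : algebraMap R K s ≠ 0 := (map_ne_zero_iff _ (IsFractionRing.injective R K)).2 hs
  let Φ₀ : (Fin r → K) →ₗ[K] K ⊗[R] (Fin d → R) :=
    Fintype.linearCombination K fun l => bb R K (Fin.castLE hrd l)
  have hΦ₀ : Function.Injective Φ₀ :=
    ((bb R K).linearIndependent.comp _ (Fin.castLE_injective hrd)).fintypeLinearCombination_injective
  let Φ : Fin (n + 1) → (Fin r → K) →ₗ[K] K ⊗[R] (Fin d → R) := fun i => tr F G i 0 ∘ₗ Φ₀
  have hΦ : ∀ i, LinearMap.ker (Φ i) = ⊥ := fun i =>
    LinearMap.ker_eq_bot.2 ((tr_injective hI hsK i).comp hΦ₀)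
  choose P hP using fun i => LinearMap.exists_leftInverse_of_injective (Φ i) (hΦ i)
  have hfree : ∀ _ : Nontrivial K, Module.finrank K (K ⊗[R] (Fin d → R)) = d := fun h => finrank_free h
  let W : Fin (n + 1) → Module.Grassmannian K (K ⊗[R] (Fin d → R)) (d - r) := fun i =>
    { toSubmodule := LinearMap.range (Φ i)
      finite_quotient := (split_quotient (Φ i) (P i) (hP i) hfree).1
      projective_quotient := (split_quotient (Φ i) (P i) (hP i) hfree).2.1
      rankAtStalk_eq := (split_quotient (Φ i) (P i) (hP i) hfree).2.2 }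
  have hW : W ∈ W4c1limliniiii.LGPoints R d r n f g K := fun i => by
    show Submodule.map (F i) (LinearMap.range (Φ i.castSucc)) ≤ LinearMap.range (Φ i.succ) ∧
      Submodule.map (G i) (LinearMap.range (Φ i.succ)) ≤ LinearMap.range (Φ i.castSucc)
    constructor
    · rintro _ ⟨_, ⟨v, rfl⟩, rfl⟩
      exact map_f_tr_mem (baseChange_link hI) i 0 (Φ₀ v) ⟨v, rfl⟩
    · rintro _ ⟨_, ⟨v, rfl⟩, rfl⟩
      exact map_g_tr_mem (baseChange_link hI) i 0 (Φ₀ v) ⟨v, rfl⟩
  exact ⟨ptOf ((e (CommAlgCat.of R K)).symm ⟨W, hW⟩)⟩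

end

end Groth.Agent.H7LGr
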