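import Groth.Agent.H7LGr.Generize
import Mathlib.RingTheory.Flat.Basic
import Mathlib.RingTheory.LocalRing.ResidueField.Ideal

/-!
# The exact locus of a linked Grassmannian
-/

set_option autoImplicit false
set_option backward.isDefEq.respectTransparency false
set_option backward.isDefEq.respectTransparency.types false

universe u

open CategoryTheory AlgebraicGeometry TensorProduct

namespace Groth.Agent.H7LGr

open H26Gr (SR resPt algOf)

noncomputable section

section Extension

variable {K : Type u} [Field K] (L : Type u) [Field L] [Algebra K L]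
  {E : Type u} [AddCommGroup E] [Module K E] [FiniteDimensional K E]

theorem range_inf_ker_baseChange (F G : E →ₗ[K] E) (h : LinearMap.range F ⊓ LinearMap.ker G = ⊥) :
    LinearMap.range (F.baseChange L) ⊓ LinearMap.ker (G.baseChange L) = ⊥ := by
  haveI : Module.Free K (LinearMap.range F) := Module.Free.of_divisionRing K _
  have hker : LinearMap.ker (G ∘ₗ (LinearMap.range F).subtype) = ⊥ := by
    refine LinearMap.ker_eq_bot'.2 fun x hx => ?_
    have : (x : E) ∈ LinearMap.range F ⊓ LinearMap.ker G := ⟨x.2, hx⟩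
    rw [h, Submodule.mem_bot] at this
    exact Subtype.ext this
  obtain ⟨P, hP⟩ := LinearMap.exists_leftInverse_of_injective _ hker
  have hQ : ((LinearMap.range F).subtype ∘ₗ P) ∘ₗ (G ∘ₗ F) = F := LinearMap.ext fun x =>
    congrArg Subtype.val (congr($hP ⟨F x, ⟨x, rfl⟩⟩))
  rw [eq_bot_iff]
  rintro _ ⟨⟨y, rfl⟩, hy⟩
  have := congr($(congrArg (LinearMap.baseChange L) hQ) y)
  rw [LinearMap.baseChange_comp, LinearMap.baseChange_comp (A := L) F G, LinearMap.comp_apply,
    LinearMap.comp_apply, show G.baseChange L (F.baseChange L y) = 0 from hy, map_zero] at this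
  exact (Submodule.mem_bot _).2 this.symm

theorem ker_le_range_baseChange (F G : E →ₗ[K] E) (h0 : ∀ x, G (F x) = 0)
    (h : Module.finrank K E ≤ Module.finrank K (LinearMap.range F) + Module.finrank K (LinearMap.range G)) :
    LinearMap.ker (G.baseChange L) ≤ LinearMap.range (F.baseChange L) := by
  have heq : LinearMap.range F = LinearMap.ker G := by
    refine Submodule.eq_of_le_of_finrank_le (by rintro _ ⟨x, rfl⟩; exact h0 x) ?_
    have := LinearMap.finrank_range_add_finrank_ker G
    omega
  have hex : Function.Exact F G := LinearMap.exact_iff.2 heq.symm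
  have hexL : Function.Exact (F.lTensor L) (G.lTensor L) := Module.Flat.lTensor_exact L hex
  intro x hx
  obtain ⟨y, hy⟩ := (hexL x).1 (by rw [← LinearMap.baseChange_eq_ltensor]; exact hx)
  exact ⟨y, by rw [LinearMap.baseChange_eq_ltensor]; exact hy⟩

end Extension

variable {R : Type u} [CommRing R] {d r n : ℕ} {f g : Fin n → (Fin d → R) →ₗ[R] (Fin d → R)} {s : R}

/-- The transversality conditions at the residue fields pass to all fields. -/
theorem transversal_of_residueField
    (hI : ∀ i, (f i).comp (g i) = s • LinearMap.id ∧ (g i).comp (f i) = s • LinearMap.id)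
    (hII : ∀ (P : Ideal R) [P.IsPrime], ∀ i,
      d ≤ Module.finrank P.ResidueField (LinearMap.range ((f i).baseChange P.ResidueField)) +
        Module.finrank P.ResidueField (LinearMap.range ((g i).baseChange P.ResidueField)))
    (hIII : ∀ (P : Ideal R) [P.IsPrime], ∀ i j : Fin n, i.val + 1 = j.val →
      LinearMap.range ((f i).baseChange P.ResidueField) ⊓
          LinearMap.ker ((f j).baseChange P.ResidueField) = ⊥ ∧
        LinearMap.range ((g j).baseChange P.ResidueField) ⊓
          LinearMap.ker ((g i).baseChange P.ResidueField) = ⊥) :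
    Transversal f g s := by
  intro K _ _
  let P : Ideal R := RingHom.ker (algebraMap R K)
  haveI : P.IsPrime := RingHom.ker_isPrime _
  let ρ : P.ResidueField →+* K := Ideal.ResidueField.lift P (algebraMap R K) le_rfl
    (fun a ha => (isUnit_iff_ne_zero.2 fun h0 => ha h0 : IsUnit (algebraMap R K a)))
  letI : Algebra P.ResidueField K := ρ.toAlgebra
  haveI : IsScalarTower R P.ResidueField K :=
    IsScalarTower.of_algebraMap_eq fun a => (Ideal.ResidueField.lift_algebraMap _ _ _ _ a).symm
  let ec := AlgebraTensorModule.cancelBaseChange R P.ResidueField K K (Fin d → R)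
  have hec : ∀ (F : (Fin d → R) →ₗ[R] (Fin d → R)) x,
      ec ((F.baseChange P.ResidueField).baseChange K x) = F.baseChange K (ec x) := fun F x => by
    induction x using TensorProduct.induction_on with
    | zero => simp
    | tmul a y =>
      induction y using TensorProduct.induction_on with
      | zero => simp
      | tmul b m => simp [ec]
      | add y z hy hz => simp only [tmul_add, map_add, hy, hz]
    | add y z hy hz => simp only [map_add, hy, hz]
  have tr1 : ∀ F G : (Fin d → R) →ₗ[R] (Fin d → R),
      LinearMap.range (F.baseChange P.ResidueField) ⊓ LinearMap.ker (G.baseChange P.ResidueField) = ⊥ →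
      LinearMap.range (F.baseChange K) ⊓ LinearMap.ker (G.baseChange K) = ⊥ := fun F G h => by
    rw [eq_bot_iff]
    rintro _ ⟨⟨y, rfl⟩, hy⟩
    obtain ⟨y', rfl⟩ := ec.surjective y
    rw [SetLike.mem_coe, LinearMap.mem_ker, ← hec, ← hec, LinearEquiv.map_eq_zero_iff] at hy
    have : (F.baseChange P.ResidueField).baseChange K y' ∈
        (⊥ : Submodule K (K ⊗[P.ResidueField] (P.ResidueField ⊗[R] (Fin d → R)))) :=
      range_inf_ker_baseChange K _ _ h ▸ ⟨⟨y', rfl⟩, hy⟩
    rw [Submodule.mem_bot] at this ⊢
    rw [← hec, this, map_zero]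
  have tr2 : ∀ F G : (Fin d → R) →ₗ[R] (Fin d → R),
      (∀ x, G.baseChange P.ResidueField (F.baseChange P.ResidueField x) = 0) →
      d ≤ Module.finrank P.ResidueField (LinearMap.range (F.baseChange P.ResidueField)) +
        Module.finrank P.ResidueField (LinearMap.range (G.baseChange P.ResidueField)) →
      LinearMap.ker (G.baseChange K) ≤ LinearMap.range (F.baseChange K) := fun F G h0 h x hx => by
    obtain ⟨x', rfl⟩ := ec.surjective x
    rw [LinearMap.mem_ker, ← hec, LinearEquiv.map_eq_zero_iff] at hx
    obtain ⟨y, hy⟩ := ker_le_range_baseChange K _ _ h0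
      (by rwa [finrank_free (R := R) (d := d) inferInstance]) hx
    exact ⟨ec y, by rw [← hec, hy]⟩
  refine ⟨fun i j h => ⟨tr1 _ _ (hIII P i j h).1, tr1 _ _ (hIII P i j h).2⟩, fun hs i => ?_⟩
  have hs' : algebraMap R P.ResidueField s = 0 := Ideal.algebraMap_residueField_eq_zero.2 hs
  exact ⟨tr2 _ _ (fun x => by
      simpa [hs'] using congr($((baseChange_link (K := P.ResidueField) hI i).2) x)) (hII P i),
    tr2 _ _ (fun x => by
      simpa [hs'] using congr($((baseChange_link (K := P.ResidueField) hI i).1) x))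
      ((hII P i).trans_eq (add_comm _ _))⟩

/-- Over a field the conditions pass to all extensions. -/
theorem transversal_of_field {k : Type u} [Field k] {f g : Fin n → (Fin d → k) →ₗ[k] (Fin d → k)} {s : k}
    (hI : ∀ i, (f i).comp (g i) = s • LinearMap.id ∧ (g i).comp (f i) = s • LinearMap.id)
    (hII : ∀ i, d ≤ Module.finrank k (LinearMap.range (f i)) + Module.finrank k (LinearMap.range (g i)))
    (hIII : ∀ i j : Fin n, i.val + 1 = j.val →
      LinearMap.range (f i) ⊓ LinearMap.ker (f j) = ⊥ ∧
        LinearMap.range (g j) ⊓ LinearMap.ker (g i) = ⊥) :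
    Transversal f g s := by
  intro K _ _
  refine ⟨fun i j h => ⟨range_inf_ker_baseChange K _ _ (hIII i j h).1,
    range_inf_ker_baseChange K _ _ (hIII i j h).2⟩, fun hs i => ?_⟩
  have hs0 : s = 0 := (map_eq_zero _).1 hs
  refine ⟨ker_le_range_baseChange K _ _ (fun x => by simpa [hs0] using congr($((hI i).2) x)) ?_,
    ker_le_range_baseChange K _ _ (fun x => by simpa [hs0] using congr($((hI i).1) x)) ?_⟩
  · simpa using hII i
  · simpa using (hII i).trans_eq (add_comm _ _)

variable {X : Over (Spec (CommRingCat.of R))} (hrd : r ≤ d)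
  (e : ∀ A : CommAlgCat.{u} R, (SR A ⟶ X) ≃ W4c1limliniiii.LGPoints R d r n f g A)

/-- The exact locus: the union of the chart loci. -/
def exactSet : Set X.left := ⋃ q : Ch d r n, chartSet hrd e q

variable {e}
  (he : ∀ (A B : CommAlgCat.{u} R) (φ : A ⟶ B) (x : SR A ⟶ X) (x' : SR B ⟶ X),
    x'.left = Spec.map (CommRingCat.ofHom φ.hom.toRingHom) ≫ x.left →
      ∀ i, (e B x').1 i = Module.Grassmannian.map φ.hom ((e A x).1 i))
  (hI : ∀ i, (f i).comp (g i) = s • LinearMap.id ∧ (g i).comp (f i) = s • LinearMap.id)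
  (hT : Transversal f g s)

include he in
theorem isOpen_exactSet : IsOpen (exactSet hrd e) :=
  isOpen_iUnion fun _ => isOpen_chartSet he

theorem range_eq_ptOf {K : Type u} [Field K] [Algebra R K] (x : SR (CommAlgCat.of R K) ⟶ X) :
    Set.range x.left = {ptOf x} := by
  refine Set.eq_singleton_iff_unique_mem.2 ⟨⟨_, rfl⟩, ?_⟩
  rintro _ ⟨p, rfl⟩
  exact congrArg x.left (Subsingleton.elim (α := PrimeSpectrum K) _ _)

include he in
theorem ptOf_mem_chartSet_iff {K : Type u} [Field K] [Algebra R K] (x : SR (CommAlgCat.of R K) ⟶ X)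
    (q : Ch d r n) :
    ptOf x ∈ chartSet hrd e q ↔ Has hrd f g q (e (CommAlgCat.of R K) x).1 := by
  rw [← range_subset_chartSet_iff he, range_eq_ptOf, Set.singleton_subset_iff]

include he hI hT in
/-- The points of the exact locus with values in a field are the exact tuples. -/
theorem ptOf_mem_exactSet_iff {K : Type u} [Field K] [Algebra R K] (x : SR (CommAlgCat.of R K) ⟶ X) :
    ptOf x ∈ exactSet hrd e ↔ W4c1limliniiii.IsExact R d r n f g K (e (CommAlgCat.of R K) x).1 := by
  constructor
  · intro h
    obtain ⟨q, hq⟩ := Set.mem_iUnion.1 h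
    exact ((ptOf_mem_chartSet_iff hrd he x q).1 hq).isExact hI (e _ x).2
  · intro h
    obtain ⟨q, hq⟩ := exists_has_of_isExact hrd hI (fun i j hij => ((hT K).1 i j hij).1) _ (e _ x).2 h
    exact Set.mem_iUnion.2 ⟨q, (ptOf_mem_chartSet_iff hrd he x q).2 hq⟩

/-- The residue point, as a rational point over the residue field. -/
theorem exists_residue_point (z : X.left) :
    ∃ (K : Type u) (_ : Field K) (_ : Algebra R K) (x : SR (CommAlgCat.of R K) ⟶ X), ptOf x = z :=
  ⟨X.left.residueField z, inferInstance, algOf (X.left.fromSpecResidueField z),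
    resPt X z, Scheme.fromSpecResidueField_apply z _⟩

include he hI hT in
/-- Every point is a specialisation of an exact one. -/
theorem exists_specializes (z : X.left) : ∃ y ∈ exactSet hrd e, y ⤳ z := by
  obtain ⟨K, _, _, x, rfl⟩ := exists_residue_point z
  obtain ⟨L, _, _, y, hy, hsp, -⟩ := exists_exact_generization he hrd hI hT x
  exact ⟨ptOf y, (ptOf_mem_exactSet_iff hrd he hI hT y).2 hy, hsp⟩

include he hI hT in
theorem dense_exactSet : Dense (exactSet hrd e) := fun z => by
  obtain ⟨y, hy, hyz⟩ := exists_specializes hrd he hI hT z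
  exact closure_mono (Set.singleton_subset_iff.2 hy) hyz.mem_closure

include he hI hT in
/-- The generic point of a component is the generic point of a chart. -/
theorem genericPoint_component [IsDomain R] {η : X.left} (hη : ∀ y : X.left, y ⤳ η → y = η) :
    ∃ (q : Ch d r n) (x₀ : SR (chartRing hrd f g q) ⟶ X) (_ : IsOpenImmersion x₀.left)
      (_ : IsDomain (chartRing hrd f g q)) (P : PrimeSpectrum (chartRing hrd f g q)),
        P.asIdeal = ⊥ ∧ x₀.left P = η ∧ Set.range x₀.left = chartSet hrd e q := by
  obtain ⟨y, hy, hyη⟩ := exists_specializes hrd he hI hT η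
  obtain rfl := hη y hyη
  obtain ⟨q, hq⟩ := Set.mem_iUnion.1 hy
  obtain ⟨x₀, hx₀, hr⟩ := exists_chart (hrd := hrd) (q := q) he hI
  obtain ⟨P, hP⟩ : y ∈ Set.range x₀.left := hr ▸ hq
  have hD : univD hrd f g q ≠ 0 := fun h0 => by
    have hu := IsLocalization.Away.algebraMap_isUnit (S := Localization.Away (univD hrd f g q)) (univD hrd f g q)
    refine P.isPrime.ne_top (Ideal.eq_top_of_isUnit_mem _ ?_ hu)
    have e0 := congrArg (algebraMap _ (Localization.Away (univD hrd f g q))) h0
    rw [map_zero] at e0
    exact e0.symm ▸ P.asIdeal.zero_mem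
  haveI hdom : IsDomain (chartRing hrd f g q) :=
    IsLocalization.isDomain_of_le_nonZeroDivisors (Localization.Away (univD hrd f g q))
      (powers_le_nonZeroDivisors_of_noZeroDivisors hD)
  let P₀ : PrimeSpectrum (chartRing hrd f g q) := ⟨⊥, Ideal.isPrime_bot⟩
  have h1 : x₀.left P₀ ⤳ y := hP ▸ ((PrimeSpectrum.le_iff_specializes P₀ P).1 bot_le).map x₀.left.continuous
  exact ⟨q, x₀, hx₀, hdom, P₀, rfl, hη _ h1, hr⟩

end

end Groth.Agent.H7LGr
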