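import Groth.Agent.H26Gr.Fam
import Groth.Agent.H26Gr.LinkedRep
import Groth.Agent.H7LGr.Frame
import Mathlib.RingTheory.RingHom.Smooth
import Mathlib.AlgebraicGeometry.Noetherian

/-!
# A representing scheme of a linked Grassmannian is formally smooth at points with a frame
-/

set_option autoImplicit false
set_option backward.isDefEq.respectTransparency false
set_option backward.isDefEq.respectTransparency.types false

universe u

open CategoryTheory AlgebraicGeometry TensorProduct

namespace Groth.Agent.H7LGr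

open H26Gr (SR bc bc_smul smap smap_comp gOf ofPt algOf exists_smap_eq exists_hom_of_points hom_ext_points
  map_toSubmodule_eq_span)

noncomputable section

variable {k : Type u} [Field k] {d r n : ℕ} {f g : Fin n → (Fin d → k) →ₗ[k] (Fin d → k)}

/-- Two points with compatible underlying maps are compatible over the base. -/
def algHomPts {X : Over (Spec (CommRingCat.of k))} {A B : CommAlgCat.{u} k} (x : SR A ⟶ X) (x' : SR B ⟶ X)
    (φ : CommRingCat.of A ⟶ CommRingCat.of B) (h : x'.left = Spec.map φ ≫ x.left) : A ⟶ B :=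
  CommAlgCat.ofHom
    { φ.hom with
      commutes' := fun c => by
        have hc : CommRingCat.ofHom (algebraMap k A) ≫ φ = CommRingCat.ofHom (algebraMap k B) :=
          Spec.map_injective (by
            rw [Spec.map_comp]
            calc Spec.map φ ≫ Spec.map (CommRingCat.ofHom (algebraMap k A))
                = Spec.map φ ≫ x.left ≫ X.hom := congrArg (Spec.map φ ≫ ·) (Over.w x).symm
              _ = x'.left ≫ X.hom := by rw [h, Category.assoc]
              _ = _ := Over.w x')
        exact congr($(hc).hom c) }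

variable {X : Over (Spec (CommRingCat.of k))}
  (e : ∀ A : CommAlgCat.{u} k, (SR A ⟶ X) ≃ W4c1limliniiii.LGPoints k d r n f g A)
  (he : ∀ (A B : CommAlgCat.{u} k) (φ : A ⟶ B) (x : SR A ⟶ X) (x' : SR B ⟶ X),
    x'.left = Spec.map (CommRingCat.ofHom φ.hom.toRingHom) ≫ x.left →
      ∀ i, (e B x').1 i = Module.Grassmannian.map φ.hom ((e A x).1 i))

include he in
/-- A scheme representing a linked Grassmannian over a field is locally of finite presentation. -/
theorem locallyOfFinitePresentation_rep : LocallyOfFinitePresentation X.hom := by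
  obtain ⟨W, E, hE, hW⟩ := H26Gr.exists_linked (R := k) d r n f g
  have key : ∀ {Y Z : Over (Spec (CommRingCat.of k))}
      (a : ∀ A : CommAlgCat.{u} k, (SR A ⟶ Y) ≃ W4c1limliniiii.LGPoints k d r n f g A)
      (b : ∀ A : CommAlgCat.{u} k, (SR A ⟶ Z) ≃ W4c1limliniiii.LGPoints k d r n f g A),
      (∀ (A B : CommAlgCat.{u} k) (φ : A ⟶ B) (x : SR A ⟶ Y) (x' : SR B ⟶ Y),
        x'.left = Spec.map (CommRingCat.ofHom φ.hom.toRingHom) ≫ x.left →
          ∀ i, (a B x').1 i = Module.Grassmannian.map φ.hom ((a A x).1 i)) →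
      (∀ (A B : CommAlgCat.{u} k) (φ : A ⟶ B) (x : SR A ⟶ Z) (x' : SR B ⟶ Z),
        x'.left = Spec.map (CommRingCat.ofHom φ.hom.toRingHom) ≫ x.left →
          ∀ i, (b B x').1 i = Module.Grassmannian.map φ.hom ((b A x).1 i)) →
      ∃ c : Y ⟶ Z, ∀ (A : CommAlgCat.{u} k) (x : SR A ⟶ Y), x ≫ c = (b A).symm (a A x) := by
    intro Y Z a b ha hb
    refine exists_hom_of_points (fun A x => (b A).symm (a A x)) fun A B φ x x' h => ?_
    have : (b B).symm (a B x') = smap φ ≫ (b A).symm (a A x) := by
      refine (b B).injective (Subtype.ext (funext fun i => ?_))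
      rw [Equiv.apply_symm_apply, ha A B φ x x' h i, hb A B φ _ (smap φ ≫ (b A).symm (a A x)) rfl i,
        Equiv.apply_symm_apply]
    rw [this]
    rfl
  obtain ⟨c, hc⟩ := key e E he hE
  obtain ⟨c', hc'⟩ := key E e hE he
  let i : X ≅ W :=
    { hom := c
      inv := c'
      hom_inv_id := hom_ext_points fun A x => by
        rw [← Category.assoc, hc, hc', Category.comp_id, Equiv.apply_symm_apply, Equiv.symm_apply_apply]
      inv_hom_id := hom_ext_points fun A x => by
        rw [← Category.assoc, hc', hc, Category.comp_id, Equiv.apply_symm_apply, Equiv.symm_apply_apply] }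
  haveI : IsIso c := i.isIso_hom
  haveI : IsIso c.left := (Over.forget _).map_isIso c
  rw [← Over.w c]
  haveI : IsProper (W.hom) := hW
  haveI : LocallyOfFiniteType (c.left ≫ W.hom) := inferInstance
  exact LocallyOfFinitePresentation.iff_locallyOfFiniteType.2 inferInstance

include he in
/-- Formal smoothness at a rational point whose tuple has a frame. -/
theorem formallySmooth_of_frame {s : k}
    (hI : ∀ i, (f i).comp (g i) = s • LinearMap.id ∧ (g i).comp (f i) = s • LinearMap.id)
    (x : SR (CommAlgCat.of k k) ⟶ X)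
    (c : Fin r → Fin (n + 1)) (L : Fin (n + 1) → (Fin d → k) →ₗ[k] (Fin r → k))
    (w : Fin r → k ⊗[k] (Fin d → k))
    (hw : ∀ l, w l ∈ ((e (CommAlgCat.of k k) x).1 (c l)).toSubmodule)
    (hdet : ∀ i, IsUnit (fmat f g c L w i).det) :
    (X.hom.stalkMap (x.left (IsLocalRing.closedPoint k))).hom.FormallySmooth := by
  let pt : X.left := x.left (IsLocalRing.closedPoint k)
  let a : Spec (X.left.presheaf.stalk pt) ⟶ X.left := X.left.fromSpecStalk pt
  let O : CommAlgCat.{u} k := ofPt a
  let xO : SR O ⟶ X := gOf a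
  let VO := e O xO
  let ε : O ⟶ CommAlgCat.of k k :=
    algHomPts xO x (Scheme.stalkClosedPointTo x.left) (Scheme.Spec_stalkClosedPointTo_fromSpecStalk x.left).symm
  have hεsec : ∀ t : k, ε.hom (algebraMap k O t) = t := fun t => ε.hom.commutes t
  have hloc : IsLocalHom (Scheme.stalkClosedPointTo x.left).hom := Scheme.isLocalHom_stalkClosedPointTo' x.left
  -- lift the frame
  have hlift : ∀ l, ∃ v ∈ (VO.1 (c l)).toSubmodule, bc _ ε.hom v = w l := by
    intro l
    have h1 := hw l
    rw [he O (CommAlgCat.of k k) ε xO x (Scheme.Spec_stalkClosedPointTo_fromSpecStalk x.left).symm,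
      map_toSubmodule_eq_span] at h1
    generalize w l = y at h1 ⊢
    induction h1 using Submodule.span_induction with
    | mem y hy => exact hy
    | zero => exact ⟨0, zero_mem _, map_zero _⟩
    | add y z _ _ hy hz =>
      obtain ⟨u, hu, rfl⟩ := hy
      obtain ⟨v, hv, rfl⟩ := hz
      exact ⟨u + v, add_mem hu hv, map_add _ _ _⟩
    | smul t y _ hy =>
      obtain ⟨u, hu, rfl⟩ := hy
      refine ⟨algebraMap k O t • u, Submodule.smul_mem _ _ hu, ?_⟩
      exact (bc_smul (R := k) (φ := ε.hom) _ u).trans (by rw [hεsec])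
  choose v hv hvw using hlift
  have hvdet : ∀ i, IsUnit (fmat f g c L v i).det := fun i => by
    refine hloc.map_nonunit _ ?_
    have := det_fmat_bc (f := f) (g := g) (c := c) (L := L) ε.hom v i
    rw [funext hvw] at this
    exact this ▸ hdet i
  -- formal smoothness of the stalk over the field
  letI : Algebra k (X.left.presheaf.stalk pt) := algOf a
  have hsm : Algebra.FormallySmooth k O := by
    refine Algebra.FormallySmooth.of_comp_surjective fun B _ _ I hI2 φ => ?_
    let A : CommAlgCat.{u} k := CommAlgCat.of k B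
    let A' : CommAlgCat.{u} k := CommAlgCat.of k (B ⧸ I)
    let π : A ⟶ A' := CommAlgCat.ofHom (Ideal.Quotient.mkₐ k I)
    let φ' : O ⟶ A' := CommAlgCat.ofHom φ
    have hsur : ∀ l, ∃ ω : A ⊗[k] (Fin d → k), bc _ π.hom ω = bc _ φ'.hom (v l) := fun l =>
      LinearMap.rTensor_surjective (Fin d → k) (g := π.hom.toLinearMap) Ideal.Quotient.mk_surjective _
    choose ω hω using hsur
    have hωdet : ∀ i, IsUnit (fmat f g c L ω i).det := fun i => by
      have h1 := isUnit_det_bc φ'.hom v hvdet i
      rw [← funext hω, det_fmat_bc] at h1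
      exact (IsNilpotent.isUnit_quotient_mk_iff (I := I) ⟨2, hI2⟩).1 h1
    let xA : SR A ⟶ X := (e A).symm ⟨fun i => framePt ω hωdet i, framePt_mem_LGPoints hI ω hωdet⟩
    have hagree : smap π ≫ xA = smap φ' ≫ xO := by
      refine (e A').injective (Subtype.ext (funext fun i => ?_))
      rw [he A A' π xA (smap π ≫ xA) rfl i, he O A' φ' xO (smap φ' ≫ xO) rfl i]
      simp only [xA, Equiv.apply_symm_apply]
      rw [← congrFun (framePt_eq VO.1 VO.2 v hv hvdet) i, map_framePt, map_framePt]
      congr 1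
      exact funext hω
    -- factor through the stalk
    obtain ⟨_, ⟨U, hU, rfl⟩, hptU, -⟩ :=
      X.left.isBasis_affineOpens.exists_subset_of_mem_open (Set.mem_univ pt) isOpen_univ
    have hagree' : Spec.map (CommRingCat.ofHom π.hom.toRingHom) ≫ xA.left =
        Spec.map (CommRingCat.ofHom φ'.hom.toRingHom) ≫ a := congrArg (fun t : SR A' ⟶ X => t.left) hagree
    have hrange : Set.range xA.left ⊆ Set.range hU.fromSpec := by
      rw [hU.range_fromSpec]
      rintro _ ⟨q, rfl⟩
      have hq : I ≤ q.asIdeal := fun b hb => q.isPrime.mem_of_pow_mem 2 (by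
        have : b * b ∈ I ^ 2 := by rw [pow_two]; exact Ideal.mul_mem_mul hb hb
        rw [hI2] at this
        rw [pow_two, show b * b = 0 from this]
        exact q.asIdeal.zero_mem)
      have hmem : q ∈ Set.range (PrimeSpectrum.comap (Ideal.Quotient.mk I)) := by
        rw [range_comap_of_surjective _ _ Ideal.Quotient.mk_surjective, Ideal.mk_ker]
        exact hq
      obtain ⟨q', rfl⟩ := hmem
      have h1 : xA.left ((Spec.map (CommRingCat.ofHom π.hom.toRingHom)) q') =
          a ((Spec.map (CommRingCat.ofHom φ'.hom.toRingHom)) q') :=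
        congr($(hagree').base q')
      show xA.left ((Spec.map (CommRingCat.ofHom π.hom.toRingHom)) q') ∈ U
      rw [h1]
      have h2 : a ((Spec.map (CommRingCat.ofHom φ'.hom.toRingHom)) q') ∈ Set.range a := ⟨_, rfl⟩
      rw [Scheme.range_fromSpecStalk] at h2
      exact (Set.mem_ofPred.1 h2).mem_open U.2 hptU
    let t : Spec (CommRingCat.of A) ⟶ Spec Γ(X.left, U) := IsOpenImmersion.lift hU.fromSpec xA.left hrange
    have ht : t ≫ hU.fromSpec = xA.left := IsOpenImmersion.lift_fac _ _ _
    let ψ₀ : Γ(X.left, U) ⟶ CommRingCat.of A := Spec.preimage t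
    let γ' : Γ(X.left, U) ⟶ X.left.presheaf.stalk pt := X.left.presheaf.germ U pt hptU
    have hγ : Spec.map γ' ≫ hU.fromSpec = a := hU.fromSpecStalk_eq_fromSpecStalk hptU
    have hπψ : ∀ b, π.hom (ψ₀.hom b) = φ'.hom (γ'.hom b) := by
      have h1 : ψ₀ ≫ CommRingCat.ofHom π.hom.toRingHom = γ' ≫ CommRingCat.ofHom φ'.hom.toRingHom := by
        refine Spec.map_injective ((cancel_mono hU.fromSpec).1 ?_)
        rw [Spec.map_comp, Spec.map_comp, Spec.map_preimage, Category.assoc, Category.assoc, ht, hγ]
        exact hagree'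
      exact fun b => congr($(h1).hom b)
    letI : Algebra Γ(X.left, U) (X.left.presheaf.stalk pt) :=
      X.left.presheaf.algebra_section_stalk ⟨pt, hptU⟩
    haveI : IsLocalization.AtPrime (X.left.presheaf.stalk pt) (hU.primeIdealOf ⟨pt, hptU⟩).asIdeal :=
      hU.isLocalization_stalk ⟨pt, hptU⟩
    have hu : ∀ y : (hU.primeIdealOf ⟨pt, hptU⟩).asIdeal.primeCompl, IsUnit (ψ₀.hom y) := fun y => by
      refine (IsNilpotent.isUnit_quotient_mk_iff (I := I) ⟨2, hI2⟩).1 ?_
      show IsUnit (π.hom (ψ₀.hom y))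
      rw [hπψ]
      exact (IsLocalization.map_units (X.left.presheaf.stalk pt) y).map φ'.hom
    let ψ : X.left.presheaf.stalk pt ⟶ CommRingCat.of A := CommRingCat.ofHom (IsLocalization.lift (S := X.left.presheaf.stalk pt) hu)
    have hψ : γ' ≫ ψ = ψ₀ := CommRingCat.hom_ext (IsLocalization.lift_comp (S := X.left.presheaf.stalk pt) hu)
    have hxA : xA.left = Spec.map ψ ≫ a := by
      rw [← hγ, ← Category.assoc, ← Spec.map_comp, hψ, Spec.map_preimage, ht]
    let Ψ : O ⟶ A := algHomPts xO xA ψ hxA
    refine ⟨Ψ.hom, AlgHom.coe_ringHom_injective ?_⟩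
    show (Ideal.Quotient.mkₐ k I).toRingHom.comp ψ.hom = _
    refine IsLocalization.ringHom_ext (S := X.left.presheaf.stalk pt)
      (hU.primeIdealOf ⟨pt, hptU⟩).asIdeal.primeCompl (RingHom.ext fun b => ?_)
    show π.hom (ψ.hom (γ'.hom b)) = φ'.hom (γ'.hom b)
    rw [← hπψ]
    exact congrArg π.hom congr($(hψ).hom b)
  -- transfer to the stalk of the base
  let ι : CommRingCat.of k ⟶ (Spec (CommRingCat.of k)).presheaf.stalk (X.hom pt) :=
    (Scheme.ΓSpecIso (CommRingCat.of k)).inv ≫
      (Spec (CommRingCat.of k)).presheaf.germ ⊤ (X.hom pt) trivial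
  have hι : ι ≫ X.hom.stalkMap pt = Spec.preimage (a ≫ X.hom) := by
    refine Spec.map_injective ?_
    rw [Spec.map_preimage, Spec.map_comp, ← Spec.fromSpecStalk_eq]
    exact Scheme.SpecMap_stalkMap_fromSpecStalk X.hom
  have hbij : Function.Bijective ι.hom := by
    letI : Algebra k ((Spec (CommRingCat.of k)).presheaf.stalk (X.hom pt)) := ι.hom.toAlgebra
    haveI : IsLocalization.AtPrime ((Spec (CommRingCat.of k)).presheaf.stalk (X.hom pt)) (X.hom pt).asIdeal :=
      StructureSheaf.IsLocalization.to_stalk _ _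
    refine ⟨RingHom.injective _, fun y => ?_⟩
    obtain ⟨b, ⟨m, hm⟩, rfl⟩ := IsLocalization.exists_mk'_eq (X.hom pt).asIdeal.primeCompl y
    have hm0 : m ≠ 0 := fun h0 => hm (h0 ▸ (X.hom pt).asIdeal.zero_mem)
    refine ⟨b / m, ?_⟩
    rw [IsLocalization.eq_mk'_iff_mul_eq]
    show ι.hom (b / m) * ι.hom m = ι.hom b
    rw [← map_mul, div_mul_cancel₀ b hm0]
  let σ := RingEquiv.ofBijective ι.hom hbij
  have hk : (Spec.preimage (a ≫ X.hom)).hom.FormallySmooth := RingHom.formallySmooth_algebraMap.2 hsm
  have hfac : (X.hom.stalkMap pt).hom = (Spec.preimage (a ≫ X.hom)).hom.comp σ.symm.toRingHom := by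
    rw [← hι]
    refine RingHom.ext fun y => ?_
    show _ = (X.hom.stalkMap pt).hom (σ (σ.symm y))
    rw [RingEquiv.apply_symm_apply]
  rw [show (X.hom.stalkMap (x.left (IsLocalRing.closedPoint k))).hom = _ from hfac]
  exact (RingHom.FormallySmooth.of_bijective σ.symm.bijective).comp hk

end

end Groth.Agent.H7LGr
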