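import Groth.Agent.H7LGr.Components

/-!
# The points that are not exact are the intersections of components
-/

set_option autoImplicit false
set_option backward.isDefEq.respectTransparency false
set_option backward.isDefEq.respectTransparency.types false

universe u

open CategoryTheory AlgebraicGeometry TensorProduct

namespace Groth.Agent.H7LGr

open H26Gr (SR)

noncomputable section

theorem finrank_ker_inf_add {K : Type u} [Field K] {E : Type u} [AddCommGroup E] [Module K E]
    [FiniteDimensional K E] (F : E →ₗ[K] E) (W : Submodule K E) :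
    Module.finrank K (LinearMap.ker F ⊓ W : Submodule K E) + Module.finrank K (W.map F) = Module.finrank K W := by
  have e1 := LinearMap.finrank_range_add_finrank_ker (F.domRestrict W)
  rw [LinearMap.range_domRestrict, LinearMap.ker_domRestrict] at e1
  rw [← e1, add_comm]
  congr 1
  rw [inf_comm, ← Submodule.map_comap_subtype]
  exact (W.equivSubtypeMap _).symm.finrank_eq

section Reverse

variable {R : Type u} [CommRing R] {d r n : ℕ} {f g : Fin n → (Fin d → R) →ₗ[R] (Fin d → R)} {s : R}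

/-- Reversal of the chain. -/
def revPoints (A : Type u) [CommRing A] [Algebra R A] :
    W4c1limliniiii.LGPoints R d r n f g A ≃
      W4c1limliniiii.LGPoints R d r n (fun i => g i.rev) (fun i => f i.rev) A where
  toFun V := ⟨fun j => V.1 j.rev, fun i => by
    simp only [Fin.rev_castSucc, Fin.rev_succ]
    exact ⟨(V.2 i.rev).2, (V.2 i.rev).1⟩⟩
  invFun V := ⟨fun j => V.1 j.rev, fun i => by
    have h := V.2 i.rev
    simp only [Fin.rev_rev] at h
    simp only [Fin.rev_castSucc, Fin.rev_succ]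
    exact ⟨h.2, h.1⟩⟩
  left_inv V := Subtype.ext (funext fun j => by simp)
  right_inv V := Subtype.ext (funext fun j => by simp)

theorem transversal_rev (hT : Transversal f g s) :
    Transversal (fun i => g i.rev) (fun i => f i.rev) s := by
  intro K _ _
  refine ⟨fun i j h => ?_, fun hs i => ⟨((hT K).2 hs i.rev).2, ((hT K).2 hs i.rev).1⟩⟩
  have := (hT K).1 j.rev i.rev (by simp [Fin.val_rev]; omega)
  exact ⟨this.2, this.1⟩

theorem hI_rev (hI : ∀ i, (f i).comp (g i) = s • LinearMap.id ∧ (g i).comp (f i) = s • LinearMap.id)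
    (i : Fin n) : (g i.rev).comp (f i.rev) = s • LinearMap.id ∧ (f i.rev).comp (g i.rev) = s • LinearMap.id :=
  ⟨(hI _).2, (hI _).1⟩

theorem isExact_rev {A : Type u} [CommRing A] [Algebra R A]
    (V : W4c1limliniiii.LGPoints R d r n f g A) :
    W4c1limliniiii.IsExact R d r n (fun i => g i.rev) (fun i => f i.rev) A (revPoints A V).1 ↔
      W4c1limliniiii.IsExact R d r n f g A V.1 := by
  simp only [W4c1limliniiii.IsExact, revPoints, Equiv.coe_fn_mk, Fin.rev_castSucc, Fin.rev_succ]
  refine ⟨fun h i => ?_, fun h i => ⟨(h i.rev).2, (h i.rev).1⟩⟩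
  have := h i.rev
  simp only [Fin.rev_rev] at this
  exact ⟨this.2, this.1⟩

end Reverse

variable {R : Type u} [CommRing R] [IsDomain R] {d r n : ℕ}
  {f g : Fin n → (Fin d → R) →ₗ[R] (Fin d → R)} {s : R} {X : Over (Spec (CommRingCat.of R))}
  (hrd : r ≤ d) {e : ∀ A : CommAlgCat.{u} R, (SR A ⟶ X) ≃ W4c1limliniiii.LGPoints R d r n f g A}
  (he : ∀ (A B : CommAlgCat.{u} R) (φ : A ⟶ B) (x : SR A ⟶ X) (x' : SR B ⟶ X),
    x'.left = Spec.map (CommRingCat.ofHom φ.hom.toRingHom) ≫ x.left →
      ∀ i, (e B x').1 i = Module.Grassmannian.map φ.hom ((e A x).1 i))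
  (hI : ∀ i, (f i).comp (g i) = s • LinearMap.id ∧ (g i).comp (f i) = s • LinearMap.id)
  (hT : Transversal f g s)

include he hrd hI hT in
/-- An exact point lies on one component only. -/
theorem component_unique_of_mem_exactSet {z : X.left} (hz : z ∈ exactSet hrd e)
    {Z₁ Z₂ : Set X.left} (h₁ : Z₁ ∈ irreducibleComponents X.left) (h₂ : Z₂ ∈ irreducibleComponents X.left)
    (hz₁ : z ∈ Z₁) (hz₂ : z ∈ Z₂) : Z₁ = Z₂ := by
  obtain ⟨η₁, rfl, hη₁⟩ := exists_maximal_genericPoint h₁
  obtain ⟨η₂, rfl, hη₂⟩ := exists_maximal_genericPoint h₂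
  obtain ⟨q, hq⟩ := Set.mem_iUnion.1 hz
  obtain ⟨x₀, hx₀, hr⟩ := exists_chart (hrd := hrd) (q := q) he hI
  have hmem : ∀ η : X.left, η ⤳ z → η ∈ Set.range x₀.left := fun η h => by
    rw [hr]; exact h.mem_open (isOpen_chartSet he) hq
  obtain ⟨P₁, rfl⟩ := hmem η₁ (specializes_iff_mem_closure.2 hz₁)
  obtain ⟨P₂, rfl⟩ := hmem η₂ (specializes_iff_mem_closure.2 hz₂)
  have hD : univD hrd f g q ≠ 0 := fun h0 => by
    have hu := IsLocalization.Away.algebraMap_isUnit (S := Localization.Away (univD hrd f g q)) (univD hrd f g q)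
    refine P₁.isPrime.ne_top (Ideal.eq_top_of_isUnit_mem _ ?_ hu)
    have e0 := congrArg (algebraMap _ (Localization.Away (univD hrd f g q))) h0
    rw [map_zero] at e0
    exact e0.symm ▸ P₁.asIdeal.zero_mem
  haveI : IsDomain (chartRing hrd f g q) :=
    IsLocalization.isDomain_of_le_nonZeroDivisors (Localization.Away (univD hrd f g q))
      (powers_le_nonZeroDivisors_of_noZeroDivisors hD)
  let P₀ : PrimeSpectrum (chartRing hrd f g q) := ⟨⊥, Ideal.isPrime_bot⟩
  have hgen : ∀ P, x₀.left P₀ ⤳ x₀.left P := fun P =>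
    ((PrimeSpectrum.le_iff_specializes P₀ P).1 bot_le).map x₀.left.continuous
  rw [← hη₁ _ (hgen P₁), ← hη₂ _ (hgen P₂)]

omit [IsDomain R] in
/-- Ranks at an exact rational point. -/
theorem fRank_add_gRank {K : Type u} [Field K] [Algebra R K] (hrd : r ≤ d)
    (hI : ∀ i, (f i).comp (g i) = s • LinearMap.id ∧ (g i).comp (f i) = s • LinearMap.id)
    (hs : algebraMap R K s = 0) (x : SR (CommAlgCat.of R K) ⟶ X)
    (hx : W4c1limliniiii.IsExact R d r n f g K (e (CommAlgCat.of R K) x).1) (i : Fin n) :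
    fRank e x i + gRank e x i = r := by
  let V : Fin (n + 1) → Submodule K (K ⊗[R] (Fin d → R)) := fun j => ((e (CommAlgCat.of R K) x).1 j).toSubmodule
  have heq : LinearMap.ker ((g i).baseChange K) ⊓ V i.succ = (V i.castSucc).map ((f i).baseChange K) := by
    refine le_antisymm (hx i).1 ?_
    rintro _ ⟨v, hv, rfl⟩
    refine ⟨?_, ((e (CommAlgCat.of R K) x).2 i).1 ⟨v, hv, rfl⟩⟩
    show (g i).baseChange K ((f i).baseChange K v) = 0
    simpa [hs] using congr($((baseChange_link (K := K) hI i).2) v)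
  have e1 := finrank_ker_inf_add ((g i).baseChange K) (V i.succ)
  rw [finrank_point hrd, heq] at e1
  exact e1

include he hrd hI hT in
/-- A point that is not exact lies on two components. -/
theorem exists_two_components {K : Type u} [Field K] [Algebra R K] (hs : s = 0)
    (x : SR (CommAlgCat.of R K) ⟶ X)
    (hx : ¬ W4c1limliniiii.IsExact R d r n f g K (e (CommAlgCat.of R K) x).1) :
    ∃ Z₁ ∈ irreducibleComponents X.left, ∃ Z₂ ∈ irreducibleComponents X.left,
      Z₁ ≠ Z₂ ∧ ptOf x ∈ Z₁ ∩ Z₂ := by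
  have hsA : ∀ (L : Type u) [Field L] [Algebra R L], algebraMap R L s = 0 := fun L _ _ => by
    rw [hs, map_zero]
  let V : Fin (n + 1) → Submodule K (K ⊗[R] (Fin d → R)) := fun j => ((e (CommAlgCat.of R K) x).1 j).toSubmodule
  have h0 : ∀ i v, (f i).baseChange K ((g i).baseChange K v) = 0 ∧
      (g i).baseChange K ((f i).baseChange K v) = 0 := fun i v =>
    ⟨by simpa [hsA K] using congr($((baseChange_link (K := K) hI i).1) v),
      by simpa [hsA K] using congr($((baseChange_link (K := K) hI i).2) v)⟩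
  obtain ⟨i, hi⟩ := exists_not_le_of_not_exact (f := fun a => (f a).baseChange K)
    (g := fun a => (g a).baseChange K) h0 V (fun j => finrank_point hrd _)
    (fun a v hv => ((e (CommAlgCat.of R K) x).2 a).2 ⟨v, hv, rfl⟩) hx
  have hlt : fRank e x i + gRank e x i < r :=
    finrank_lt_of_not_le (f := fun a => (f a).baseChange K) (g := fun a => (g a).baseChange K) h0 V
      (fun j => finrank_point hrd _) (fun a v hv => ((e (CommAlgCat.of R K) x).2 a).1 ⟨v, hv, rfl⟩) i hi
  obtain ⟨L₁, _, _, y₁, hy₁, hsp₁, hr₁⟩ := exists_exact_generization he hrd hI hT x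
  let e' : ∀ A : CommAlgCat.{u} R, (SR A ⟶ X) ≃
      W4c1limliniiii.LGPoints R d r n (fun i => g i.rev) (fun i => f i.rev) A :=
    fun A => (e A).trans (revPoints A)
  have he' : ∀ (A B : CommAlgCat.{u} R) (φ : A ⟶ B) (x : SR A ⟶ X) (x' : SR B ⟶ X),
      x'.left = Spec.map (CommRingCat.ofHom φ.hom.toRingHom) ≫ x.left →
        ∀ j, (e' B x').1 j = Module.Grassmannian.map φ.hom ((e' A x).1 j) :=
    fun A B φ a a' h j => he A B φ a a' h j.rev
  obtain ⟨L₂, _, _, y₂, hy₂, hsp₂, hr₂⟩ :=
    exists_exact_generization he' hrd (hI_rev hI) (transversal_rev hT) x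
  have hy₂' : W4c1limliniiii.IsExact R d r n f g L₂ (e (CommAlgCat.of R L₂) y₂).1 :=
    (isExact_rev _).1 hy₂
  have ha₂ : fRank e y₂ i ≤ fRank e x i := by
    have := (hr₂ (hsA K)).2 i.rev
    have key : ∀ (a : Fin n) (b : Fin (n + 1)), a = i → b = i.castSucc →
        Module.finrank L₂ (((e (CommAlgCat.of R L₂) y₂).1 b).toSubmodule.map ((f a).baseChange L₂)) ≤
          Module.finrank K (((e (CommAlgCat.of R K) x).1 b).toSubmodule.map ((f a).baseChange K)) →
        fRank e y₂ i ≤ fRank e x i := by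
      rintro a b rfl rfl h
      exact h
    exact key i.rev.rev i.rev.succ.rev (Fin.rev_rev i) (by rw [Fin.rev_succ, Fin.rev_rev]) this
  have ha₁ : fRank e x i < fRank e y₁ i := by
    have := (hr₁ (hsA K)).2 i
    have := fRank_add_gRank hrd hI (hsA L₁) y₁ hy₁ i
    omega
  obtain ⟨q₁, hq₁⟩ := Set.mem_iUnion.1 ((ptOf_mem_exactSet_iff hrd he hI hT y₁).2 hy₁)
  obtain ⟨q₂, hq₂⟩ := Set.mem_iUnion.1 ((ptOf_mem_exactSet_iff hrd he hI hT y₂).2 hy₂')
  have h₁ : irreducibleComponent (ptOf y₁) ∈ irreducibleComponents X.left :=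
    irreducibleComponent_mem_irreducibleComponents _
  have h₂ : irreducibleComponent (ptOf y₂) ∈ irreducibleComponents X.left :=
    irreducibleComponent_mem_irreducibleComponents _
  refine ⟨_, h₁, _, h₂, fun heq => ?_, hsp₁.mem_closed (isClosed_of_mem_irreducibleComponents _ h₁)
    mem_irreducibleComponent, hsp₂.mem_closed (isClosed_of_mem_irreducibleComponents _ h₂)
    mem_irreducibleComponent⟩
  obtain ⟨η, hη, -⟩ := exists_maximal_genericPoint h₁
  have hη₁ : η ⤳ ptOf y₁ := specializes_iff_mem_closure.2 (hη.symm ▸ mem_irreducibleComponent)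
  have hη₂ : η ⤳ ptOf y₂ := specializes_iff_mem_closure.2 (by
    rw [hη, heq]; exact mem_irreducibleComponent)
  have hm₁ := hη₁.mem_open (isOpen_chartSet he) hq₁
  have hm₂ := hη₂.mem_open (isOpen_chartSet he) hq₂
  obtain ⟨L, _, _, w, rfl⟩ := exists_residue_point η
  have e1 := ((ptOf_mem_chartSet_iff hrd he w q₁).1 hm₁).finrank_map hI (e _ w).2 (hsA L) i
  have e2 := ((ptOf_mem_chartSet_iff hrd he w q₂).1 hm₂).finrank_map hI (e _ w).2 (hsA L) i
  have e3 : fRank e y₁ i = _ :=
    ((ptOf_mem_chartSet_iff hrd he y₁ q₁).1 hq₁).finrank_map hI (e _ y₁).2 (hsA L₁) i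
  have e4 : fRank e y₂ i = _ :=
    ((ptOf_mem_chartSet_iff hrd he y₂ q₂).1 hq₂).finrank_map hI (e _ y₂).2 (hsA L₂) i
  omega

end

end Groth.Agent.H7LGr
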